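import Cfsg.Agent.Lib.Forms.Witt
import Mathlib

/-!
The `σ`-dual of a polynomial and the splitting of a non-degenerate `(σ, ε)`-form along the
minimal polynomial of a semisimple isometry.
-/

set_option autoImplicit false
set_option linter.unusedSectionVars false

namespace Cfsg.Agent.FormTorus

open Polynomial FormsLib

variable {F V : Type*} [Field F] [AddCommGroup V] [Module F V] {σ : F →+* F} {ε : F}
  {B : V →ₛₗ[σ] V →ₗ[F] F}

/-- The monic polynomial whose roots are the inverses of the conjugates of the roots of `f`. -/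
noncomputable def dualPoly (σ : F →+* F) (f : F[X]) : F[X] :=
  (f.map σ).reverse * C (σ (f.coeff 0))⁻¹

theorem coeff_zero_map {f : F[X]} (h0 : f.coeff 0 ≠ 0) : (f.map σ).coeff 0 ≠ 0 := by
  rw [coeff_map]; exact (map_ne_zero σ).2 h0

theorem dualPoly_mul (f g : F[X]) : dualPoly σ (f * g) = dualPoly σ f * dualPoly σ g := by
  rw [dualPoly, dualPoly, dualPoly, Polynomial.map_mul, reverse_mul_of_domain, mul_coeff_zero,
    map_mul, mul_inv, C_mul]
  ring

theorem monic_dualPoly {f : F[X]} (h0 : f.coeff 0 ≠ 0) : (dualPoly σ f).Monic := by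
  rw [Polynomial.Monic, dualPoly, leadingCoeff_mul, reverse_leadingCoeff, leadingCoeff_C,
    trailingCoeff_eq_coeff_zero (coeff_zero_map h0), coeff_map]
  exact mul_inv_cancel₀ ((map_ne_zero σ).2 h0)

theorem natDegree_dualPoly {f : F[X]} (h0 : f.coeff 0 ≠ 0) :
    (dualPoly σ f).natDegree = f.natDegree := by
  rw [dualPoly, natDegree_mul_C (inv_ne_zero ((map_ne_zero σ).2 h0)), reverse_natDegree,
    natTrailingDegree_eq_zero.2 (Or.inr (coeff_zero_map h0)), natDegree_map, Nat.sub_zero]

theorem coeff_dualPoly (f : F[X]) (h0 : f.coeff 0 ≠ 0) (i : ℕ) :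
    (dualPoly σ f).coeff i = σ (f.coeff (revAt f.natDegree i)) / σ (f.coeff 0) := by
  rw [dualPoly, coeff_mul_C, reverse, natDegree_map, coeff_reflect, coeff_map, div_eq_mul_inv]

theorem coeff_zero_dualPoly {f : F[X]} (hm : f.Monic) (h0 : f.coeff 0 ≠ 0) :
    (dualPoly σ f).coeff 0 = (σ (f.coeff 0))⁻¹ := by
  rw [coeff_dualPoly f h0, revAt_le (Nat.zero_le _), Nat.sub_zero, hm.coeff_natDegree, map_one,
    one_div]

theorem dualPoly_dualPoly (hσ : ∀ a, σ (σ a) = a) {f : F[X]} (hm : f.Monic)
    (h0 : f.coeff 0 ≠ 0) : dualPoly σ (dualPoly σ f) = f := by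
  have h0' : (dualPoly σ f).coeff 0 ≠ 0 := by
    rw [coeff_zero_dualPoly hm h0]; exact inv_ne_zero ((map_ne_zero σ).2 h0)
  ext i
  rw [coeff_dualPoly _ h0', natDegree_dualPoly h0, coeff_dualPoly f h0, coeff_zero_dualPoly hm h0,
    revAt_invol, map_div₀, map_inv₀, hσ, hσ, div_inv_eq_mul, div_mul_cancel₀ _ h0]

/-- `reflect` evaluated at an invertible endomorphism. -/
theorem aeval_reflect_mul {x y : Module.End F V} (hxy : x * y = 1) (hyx : y * x = 1) (N : ℕ) :
    ∀ p : F[X], p.natDegree ≤ N → aeval x (reflect N p) * y ^ N = aeval y p := by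
  refine induction_with_natDegree_le (fun p => aeval x (reflect N p) * y ^ N = aeval y p) N
    (by simp) (fun n r hr hn => ?_) (fun f g _ _ hf hg => by
      rw [reflect_add, map_add, map_add, add_mul, hf, hg])
  have hc : Commute x y := hxy.trans hyx.symm
  have hy : y ^ N = y ^ (N - n) * y ^ n := by rw [← pow_add, Nat.sub_add_cancel hn]
  rw [reflect_C_mul_X_pow, revAt_le hn, map_mul, map_mul, aeval_C, aeval_C, aeval_X_pow,
    aeval_X_pow, mul_assoc, hy, ← mul_assoc (x ^ (N - n)), ← hc.mul_pow, hxy, one_pow, one_mul]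

section Isometry

variable {s : V ≃ₗ[F] V}

/-- The endomorphism underlying an equivalence. -/
abbrev en (s : V ≃ₗ[F] V) : Module.End F V := (s : V →ₗ[F] V)

theorem en_mul_symm (s : V ≃ₗ[F] V) : en s * en s.symm = 1 :=
  LinearMap.ext fun v => s.apply_symm_apply v

theorem en_symm_mul (s : V ≃ₗ[F] V) : en s.symm * en s = 1 :=
  LinearMap.ext fun v => s.symm_apply_apply v

theorem pres_pow (hs : Preserves B s) (n : ℕ) (u v : V) :
    B ((en s ^ n) u) v = B u ((en s.symm ^ n) v) := by
  induction n generalizing u v with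
  | zero => rfl
  | succ n ih =>
    rw [pow_succ, pow_succ']
    show B ((en s ^ n) (s u)) v = B u (s.symm ((en s.symm ^ n) v))
    rw [ih]
    conv_lhs => rw [← s.apply_symm_apply ((en s.symm ^ n) v)]
    exact hs _ _

/-- The adjoint of a polynomial in an isometry. -/
theorem pres_aeval (hs : Preserves B s) (f : F[X]) (u v : V) :
    B (aeval (en s) f u) v = B u (aeval (en s.symm) (f.map σ) v) := by
  induction f using Polynomial.induction_on' generalizing u v with
  | add f g hf hg => simp [map_add, Polynomial.map_add, hf, hg]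
  | monomial n r =>
    rw [map_monomial, aeval_monomial, aeval_monomial]
    simp [Algebra.algebraMap_eq_smul_one, pres_pow hs]

theorem orth_dual (hs : Preserves B s) {f : F[X]} {u : V} (hu : aeval (en s) f u = 0) (v : V) :
    B u (aeval (en s) (dualPoly σ f) v) = 0 := by
  have key : ∀ w, B u (aeval (en s.symm) (f.map σ) w) = 0 := fun w => by
    rw [← pres_aeval hs, hu, map_zero, LinearMap.zero_apply]
  set N := (f.map σ).natDegree with hN
  have h1 := aeval_reflect_mul (en_mul_symm s) (en_symm_mul s) N (f.map σ) le_rfl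
  have h2 : aeval (en s) (f.map σ).reverse v = aeval (en s.symm) (f.map σ) ((en s ^ N) v) := by
    rw [← h1, ← Module.End.mul_apply, mul_assoc,
      ← (show Commute (en s.symm) (en s) from (en_symm_mul s).trans (en_mul_symm s).symm).mul_pow,
      en_symm_mul, one_pow, mul_one]
    rfl
  rw [dualPoly, map_mul, aeval_C, Algebra.algebraMap_eq_smul_one, Module.End.mul_apply,
    LinearMap.smul_apply, map_smul, map_smul, Module.End.one_apply, h2, key, smul_zero]

variable [FiniteDimensional F V]

theorem minpoly_coeff_zero [Nontrivial V] (s : V ≃ₗ[F] V) : (minpoly F (en s)).coeff 0 ≠ 0 := by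
  intro h
  obtain ⟨c, hc⟩ := Polynomial.X_dvd_iff.2 h
  have hne := minpoly.ne_zero (Algebra.IsIntegral.isIntegral (R := F) (en s))
  rw [hc, mul_ne_zero_iff] at hne
  have h1 : aeval (en s) c = 0 := by
    have := minpoly.aeval F (en s)
    rw [hc, map_mul, aeval_X] at this
    calc aeval (en s) c = en s.symm * (en s * aeval (en s) c) := by
          rw [← mul_assoc, en_symm_mul, one_mul]
      _ = 0 := by rw [this, mul_zero]
  have h2 := natDegree_le_of_dvd (minpoly.dvd F (en s) h1) hne.2
  rw [hc, natDegree_X_mul hne.2] at h2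
  omega

theorem dualPoly_minpoly [Nontrivial V] (hB : IsTraceForm σ ε B) (hs : Preserves B s) :
    dualPoly σ (minpoly F (en s)) = minpoly F (en s) := by
  have h0 := minpoly_coeff_zero s
  have hm := minpoly.monic (Algebra.IsIntegral.isIntegral (R := F) (en s))
  have h1 : aeval (en s) (dualPoly σ (minpoly F (en s))) = 0 := by
    refine LinearMap.ext fun v => hB.nondeg _ fun w => ?_
    rw [hB.flip w, orth_dual hs (by rw [minpoly.aeval]; rfl), map_zero, mul_zero]
  exact (eq_of_monic_of_dvd_of_natDegree_le hm (monic_dualPoly h0) (minpoly.dvd F (en s) h1)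
    (natDegree_dualPoly h0).le)

/-- A coprime factorisation of an annihilating polynomial splits the space. -/
theorem ker_split {T : Module.End F V} {a b : F[X]} (hco : IsCoprime a b)
    (h : aeval T (a * b) = 0) :
    IsCompl (LinearMap.ker (aeval T a)) (LinearMap.ker (aeval T b)) ∧
      LinearMap.range (aeval T a) = LinearMap.ker (aeval T b) := by
  obtain ⟨x, y, hxy⟩ := hco
  have key : ∀ v, aeval T x (aeval T a v) + aeval T y (aeval T b v) = v := fun v => by
    have := congrArg (fun p => aeval T p v) hxy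
    simpa only [map_add, map_mul, map_one, LinearMap.add_apply, Module.End.mul_apply,
      Module.End.one_apply] using this
  have hab : ∀ v, aeval T b (aeval T a v) = 0 := fun v => by
    rw [← Module.End.mul_apply, ← map_mul, mul_comm, h]; rfl
  have hba : ∀ v, aeval T a (aeval T b v) = 0 := fun v => by
    rw [← Module.End.mul_apply, ← map_mul, h]; rfl
  have hcomm : ∀ (p r : F[X]) v, aeval T p (aeval T r v) = aeval T r (aeval T p v) := fun p r v => by
    rw [← Module.End.mul_apply, ← map_mul, mul_comm, map_mul, Module.End.mul_apply]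
  refine ⟨⟨?_, ?_⟩, ?_⟩
  · rw [Submodule.disjoint_def]
    intro v h1 h2
    rw [LinearMap.mem_ker] at h1 h2
    have := key v
    rw [h1, h2, map_zero, map_zero, add_zero] at this
    exact this.symm
  · rw [codisjoint_iff, eq_top_iff]
    intro v _
    refine Submodule.mem_sup.2 ⟨aeval T y (aeval T b v), ?_, aeval T x (aeval T a v), ?_, ?_⟩
    · rw [LinearMap.mem_ker, hcomm a y, hba, map_zero]
    · rw [LinearMap.mem_ker, hcomm b x, hab, map_zero]
    · rw [add_comm, key]
  · refine le_antisymm (fun v ⟨w, hw⟩ => by rw [LinearMap.mem_ker, ← hw, hab]) fun v hv => ?_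
    rw [LinearMap.mem_ker] at hv
    refine ⟨aeval T x v, ?_⟩
    have := key v
    rw [hv, map_zero, add_zero] at this
    rw [hcomm a x, this]

/-- A proper orthogonal decomposition invariant under the centraliser of `s`. -/
def Decomp (B : V →ₛₗ[σ] V →ₗ[F] F) (s : V ≃ₗ[F] V) : Prop :=
  ∃ W₁ W₂ : Submodule F V, IsCompl W₁ W₂ ∧ W₁ ≠ ⊥ ∧ W₂ ≠ ⊥ ∧
    (∀ u ∈ W₁, ∀ v ∈ W₂, B u v = 0 ∧ B v u = 0) ∧
    ∀ g : Module.End F V, Commute g (en s) → (∀ v ∈ W₁, g v ∈ W₁) ∧ ∀ v ∈ W₂, g v ∈ W₂

/-- The three possibilities for a semisimple isometry. -/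
theorem trichotomy [Nontrivial V] (hB : IsTraceForm σ ε B) (hs : Preserves B s)
    (hsep : (minpoly F (en s)).Separable) :
    Decomp B s ∨
    (∃ f : F[X], f.Monic ∧ Irreducible f ∧ f.coeff 0 ≠ 0 ∧ dualPoly σ f = f ∧ aeval (en s) f = 0) ∨
    (∃ (f : F[X]) (W₁ W₂ : Submodule F V), f.Monic ∧ Irreducible f ∧ f.coeff 0 ≠ 0 ∧
      IsCompl W₁ W₂ ∧ W₁ ≠ ⊥ ∧ (∀ u ∈ W₁, ∀ v ∈ W₁, B u v = 0) ∧
      (∀ u ∈ W₂, ∀ v ∈ W₂, B u v = 0) ∧
      (∀ g : Module.End F V, Commute g (en s) → (∀ v ∈ W₁, g v ∈ W₁) ∧ ∀ v ∈ W₂, g v ∈ W₂) ∧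
      ∀ v ∈ W₁, aeval (en s) f v = 0) := by
  set μ := minpoly F (en s) with hμ
  have hint := Algebra.IsIntegral.isIntegral (R := F) (en s)
  have hμm : μ.Monic := minpoly.monic hint
  have hμ0 : μ.coeff 0 ≠ 0 := minpoly_coeff_zero s
  have hdual : dualPoly σ μ = μ := dualPoly_minpoly hB hs
  have hμu : ¬IsUnit μ := minpoly.not_isUnit F _
  obtain ⟨f, hfm, hfi, hfd⟩ := exists_monic_irreducible_factor μ hμu
  have hdvd0 : ∀ a : F[X], a ∣ μ → a.coeff 0 ≠ 0 := fun a ⟨c, hc⟩ h => hμ0 (by
    rw [hc, mul_coeff_zero, h, zero_mul])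
  have hf0 := hdvd0 f hfd
  set f' := dualPoly σ f with hf'
  have hf'd : f' ∣ μ := by
    obtain ⟨c, hc⟩ := hfd
    exact ⟨dualPoly σ c, by rw [← hdual, hc, dualPoly_mul]⟩
  have hproper : ∀ a b : F[X], μ = a * b → ¬IsUnit b → LinearMap.ker (aeval (en s) b) ≠ ⊥ := by
    intro a b hab hb hbot
    have ha : aeval (en s) a = 0 := LinearMap.ext fun v => by
      have : aeval (en s) b (aeval (en s) a v) = 0 := by
        rw [← Module.End.mul_apply, ← map_mul, mul_comm, ← hab, minpoly.aeval]; rfl
      exact (LinearMap.ker_eq_bot'.1 hbot) _ this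
    obtain ⟨c, hc⟩ := minpoly.dvd F (en s) ha
    rw [← hμ] at hc
    refine hb (isUnit_of_dvd_one ⟨c, ?_⟩)
    have hne : a ≠ 0 := fun h => hμm.ne_zero (by rw [hab, h, zero_mul])
    refine mul_left_cancel₀ hne ?_
    rw [mul_one]
    conv_lhs => rw [hc, hab]
    ring
  have hinv : ∀ (a : F[X]) (g : Module.End F V), Commute g (en s) →
      ∀ v ∈ LinearMap.ker (aeval (en s) a), g v ∈ LinearMap.ker (aeval (en s) a) := by
    intro a g hg v hv
    rw [LinearMap.mem_ker] at hv ⊢
    have hc : Commute g (aeval (en s) a) :=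
      Algebra.commute_of_mem_adjoin_singleton_of_commute (aeval_mem_adjoin_singleton F (en s)) hg
    rw [← Module.End.mul_apply, ← hc.eq, Module.End.mul_apply, hv, map_zero]
  -- splitting along a self-dual factor
  have hcase : ∀ h l : F[X], μ = h * l → dualPoly σ h = h → ¬IsUnit h → ¬IsUnit l →
      Decomp B s := by
    intro h l hhl hhd hhu hlu
    have hco : IsCoprime h l := (hhl ▸ hsep).isCoprime
    obtain ⟨hc, hr⟩ := ker_split hco (T := en s) (by rw [← hhl]; exact minpoly.aeval F _)
    have h12 : ∀ u ∈ LinearMap.ker (aeval (en s) h), ∀ v ∈ LinearMap.ker (aeval (en s) l),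
        B u v = 0 := by
      intro u hu v hv
      rw [← hr] at hv
      obtain ⟨w, rfl⟩ := hv
      have := orth_dual hs (f := h) (LinearMap.mem_ker.1 hu) w
      rwa [hhd] at this
    exact ⟨_, _, hc, hproper l h (by rw [hhl, mul_comm]) hhu, hproper h l hhl hlu,
      fun u hu v hv => ⟨h12 u hu v hv, by rw [hB.flip u v, h12 u hu v hv, map_zero, mul_zero]⟩,
      fun g hg => ⟨hinv _ g hg, hinv _ g hg⟩⟩
  by_cases hff : f' = f
  · obtain ⟨l, hl⟩ := hfd
    by_cases hlu : IsUnit l
    · refine Or.inr (Or.inl ⟨f, hfm, hfi, hf0, hff, ?_⟩)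
      obtain ⟨c, hc, rfl⟩ := Polynomial.isUnit_iff.1 hlu
      have := minpoly.aeval F (en s)
      rw [← hμ, hl, map_mul, aeval_C, ← Algebra.commutes, ← Algebra.smul_def] at this
      exact (smul_eq_zero.1 this).resolve_left hc.ne_zero
    · exact Or.inl (hcase f l hl hff hfi.not_isUnit hlu)
  · have hfco : IsCoprime f f' := by
      rcases hfi.isCoprime_or_dvd f' with h | h
      · exact h
      · exact absurd (eq_of_monic_of_dvd_of_natDegree_le hfm (monic_dualPoly hf0) h
          (natDegree_dualPoly hf0).le) hff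
    have hhd : dualPoly σ (f * f') = f * f' := by
      rw [dualPoly_mul, hf', dualPoly_dualPoly hB.invol hfm hf0, mul_comm]
    obtain ⟨l, hl⟩ := hfco.mul_dvd hfd hf'd
    by_cases hlu : IsUnit l
    · have h0 : aeval (en s) (f * f') = 0 := by
        obtain ⟨c, hc, rfl⟩ := Polynomial.isUnit_iff.1 hlu
        have := minpoly.aeval F (en s)
        rw [← hμ, hl, map_mul, aeval_C, ← Algebra.commutes, ← Algebra.smul_def] at this
        exact (smul_eq_zero.1 this).resolve_left hc.ne_zero
      obtain ⟨hc, hr⟩ := ker_split hfco (T := en s) h0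
      obtain ⟨-, hr'⟩ := ker_split hfco.symm (T := en s) (by rwa [mul_comm])
      refine Or.inr (Or.inr ⟨f, _, _, hfm, hfi, hf0, hc, hproper (f' * l) f
          (by rw [hl]; ring) hfi.not_isUnit, ?_, ?_,
        fun g hg => ⟨hinv _ g hg, hinv _ g hg⟩, fun v hv => LinearMap.mem_ker.1 hv⟩)
      · intro u hu v hv
        rw [← hr'] at hv
        obtain ⟨w, rfl⟩ := hv
        exact orth_dual hs (LinearMap.mem_ker.1 hu) w
      · intro u hu v hv
        rw [← hr] at hv
        obtain ⟨w, rfl⟩ := hv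
        have := orth_dual hs (f := f') (LinearMap.mem_ker.1 hu) w
        rwa [hf', dualPoly_dualPoly hB.invol hfm hf0] at this
    · refine Or.inl (hcase (f * f') l hl hhd (fun h => hfi.not_isUnit ?_) hlu)
      exact isUnit_of_mul_isUnit_left h

/-- An element of order prime to the characteristic has separable minimal polynomial. -/
theorem separable_minpoly {m : ℕ} (hm : (m : F) ≠ 0) {T : Module.End F V} (h : T ^ m = 1) :
    (minpoly F T).Separable :=
  (separable_X_pow_sub_C (1 : F) hm one_ne_zero).of_dvd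
    (minpoly.dvd F T (by simp [h]))

end Isometry

end Cfsg.Agent.FormTorus
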