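import Cfsg.Agent.Lib.FormTorus.Models
import Cfsg.Agent.Lib.AutPSU.Centre
import Cfsg.Agent.Lib.AutPSp.Centre
import Cfsg.Agent.Lib.Forms.UnitaryFin

/-!
Transport of isometries of abstract forms to `PSU_n(q)` and `PSp_{2m}(q)`.
-/

set_option autoImplicit false
set_option linter.unusedSectionVars false

namespace Cfsg.Agent.FormTorus

open FormsLib Matrix

universe u w

section Unitary

variable {F : Type u} [Field F] {q : ℕ} [hQ : AutPSU.QField F q]
  {V : Type w} [AddCommGroup V] [Module F V] [FiniteDimensional F V]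

local notation "σ" => ((AutPSU.qb (F := F) q : F ≃+* F) : F →+* F)

theorem sigma_apply (a : F) : σ a = a ^ q := AutPSU.qb_apply a

theorem sigma_sigma (a : F) : σ (σ a) = a := AutPSU.qb_qb a

theorem exists_sigma_ne : ∃ a : F, σ a ≠ a := AutPSU.qb_ne

theorem sigma_ne_id : σ ≠ RingHom.id F := fun h => by
  obtain ⟨a, ha⟩ := exists_sigma_ne (F := F) (q := q)
  exact ha (by rw [h]; rfl)

theorem isUnitary_of_isFlip {B : V →ₛₗ[σ] V →ₗ[F] F} (hB : IsFlipForm σ 1 B) :
    IsUnitaryForm σ B := by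
  refine ⟨⟨sigma_sigma, by simp, hB.flip, fun v => ?_, hB.nondeg⟩, sigma_ne_id, fun a ha => ?_⟩
  · obtain ⟨t, ht⟩ := AutPSU.exists_trace (q := q) (c := B v v) (by
      have := hB.flip v v
      rw [one_mul] at this
      exact this.symm)
    exact ⟨t, by rw [one_mul]; exact ht.symm⟩
  · exact AutPSU.exists_norm (q := q) ha

/-- An orthonormal basis. -/
theorem exists_isometry_fin {B : V →ₛₗ[σ] V →ₗ[F] F} (hB : IsFlipForm σ 1 B) {n : ℕ}
    (hn : Module.finrank F V = n) :
    ∃ Φ : V ≃ₗ[F] (Fin n → F), ∀ u v, B u v = hermForm n F q (Φ v) (Φ u) := by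
  classical
  have hU := isUnitary_of_isFlip hB
  have key : ∀ (k : ℕ) (W : Submodule F V), Module.finrank F W = k → NondegOn B W →
      ∃ x : Fin k → V, (∀ i, x i ∈ W) ∧ ∀ i j, B (x i) (x j) = if i = j then 1 else 0 := by
    intro k
    induction k with
    | zero => exact fun W _ _ => ⟨Fin.elim0, fun i => i.elim0, fun i => i.elim0⟩
    | succ k ih =>
      intro W hk hW
      have hne : W ≠ ⊥ := fun h => by rw [h, finrank_bot] at hk; omega
      obtain ⟨z, hz, hzz⟩ := exists_norm_one hU hW hne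
      have hle := finrank_inf_ker W (B z)
      have hlt : Module.finrank F ↥(W ⊓ LinearMap.ker (B z)) < Module.finrank F W := by
        refine Submodule.finrank_lt_finrank_of_lt (lt_of_le_of_ne inf_le_left fun h => ?_)
        have hm : z ∈ W ⊓ LinearMap.ker (B z) := h.symm ▸ hz
        have := LinearMap.mem_ker.1 hm.2
        rw [hzz] at this
        exact one_ne_zero this
      obtain ⟨y, hy, hyy⟩ := ih (W ⊓ LinearMap.ker (B z)) (by omega) (nondegOn_perp hU hW hz hzz)
      have h0 : ∀ i, B z (y i) = 0 := fun i => LinearMap.mem_ker.1 (hy i).2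
      refine ⟨Fin.cons z y, fun i => ?_, fun i j => ?_⟩
      · refine Fin.cases ?_ (fun i => ?_) i
        · simpa using hz
        · simpa using (hy i).1
      · refine Fin.cases ?_ (fun i => ?_) i <;> refine Fin.cases ?_ (fun j => ?_) j
        · simpa using hzz
        · simpa [Fin.succ_ne_zero, eq_comm] using h0 j
        · have : B (y i) z = 0 := by rw [hB.flip, h0 i, map_zero, mul_zero]
          simpa [Fin.succ_ne_zero] using this
        · simpa [Fin.succ_inj] using hyy i j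
  have hn' : Module.finrank F ↥(⊤ : Submodule F V) = n := by rw [finrank_top, hn]
  obtain ⟨x, -, hx⟩ := key n ⊤ hn' (fun w _ h => hB.nondeg w fun u => by
    rw [hB.flip u w, h u Submodule.mem_top, map_zero, mul_zero])
  let ψ : (Fin n → F) →ₗ[F] V := Fintype.linearCombination F x
  have hψ : ∀ a c, B (ψ a) (ψ c) = hermForm n F q c a := fun a c => by
    simp only [ψ, Fintype.linearCombination_apply, map_sum, map_smulₛₗ, LinearMap.coe_sum,
      Finset.sum_apply, LinearMap.smul_apply, smul_eq_mul, RingHom.id_apply, hx, mul_ite, mul_one,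
      mul_zero, Finset.sum_ite_eq', Finset.mem_univ, if_true, hermForm]
    exact Finset.sum_congr rfl fun i _ => by rw [← sigma_apply (q := q)]
  have hinj : Function.Injective ψ := by
    refine (injective_iff_map_eq_zero ψ).2 fun a ha => AutPSU.eq_zero_of_orth (q := q) fun v => ?_
    have := hψ a v
    rw [ha, map_zero, LinearMap.zero_apply] at this
    exact this.symm
  have hdim : Module.finrank F (Fin n → F) = Module.finrank F V := by
    rw [hn, Module.finrank_fin_fun]
  let Ψ := LinearEquiv.ofBijective ψ ⟨hinj,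
    (LinearMap.injective_iff_surjective_of_finrank_eq_finrank hdim).1 hinj⟩
  refine ⟨Ψ.symm, fun u v => ?_⟩
  rw [← hψ]
  show B u v = B (Ψ (Ψ.symm u)) (Ψ (Ψ.symm v))
  rw [Ψ.apply_symm_apply, Ψ.apply_symm_apply]

/-- An isometry of determinant one gives an element of `PSU_n(q)`. -/
theorem exists_psu {B : V →ₛₗ[σ] V →ₗ[F] F} (hB : IsFlipForm σ 1 B) {n : ℕ} (hn2 : 2 ≤ n)
    (hn : Module.finrank F V = n) (g : V ≃ₗ[F] V) (hg : Preserves B g)
    (hdet : LinearMap.det (g : V →ₗ[F] V) = 1) :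
    ∃ x : Cfsg.PSU n F q, ∀ j : ℕ, x ^ j = 1 ↔ ∃ c : F, ∀ v, ((g : V →ₗ[F] V) ^ j) v = c • v := by
  obtain ⟨Φ, hΦ⟩ := exists_isometry_fin hB hn
  let L : (Fin n → F) →ₗ[F] (Fin n → F) := (Φ : V →ₗ[F] _) ∘ₗ (g : V →ₗ[F] V) ∘ₗ (Φ.symm : _ →ₗ[F] V)
  have hL : ∀ v, LinearMap.toMatrix' L *ᵥ v = Φ (g (Φ.symm v)) := fun v => by
    rw [LinearMap.toMatrix'_mulVec]; rfl
  have hdet' : (LinearMap.toMatrix' L).det = 1 := by
    rw [LinearMap.det_toMatrix', LinearMap.det_conj, hdet]
  let s : ↥(Cfsg.SU n F q) := ⟨⟨LinearMap.toMatrix' L, hdet'⟩, fun a b => by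
    show hermForm n F q (LinearMap.toMatrix' L *ᵥ a) (LinearMap.toMatrix' L *ᵥ b) =
      hermForm n F q a b
    rw [hL, hL, ← hΦ, hg, hΦ, Φ.apply_symm_apply, Φ.apply_symm_apply]⟩
  have happ : ∀ (j : ℕ) v, AutPSU.app (s ^ j) v = Φ (((g : V →ₗ[F] V) ^ j) (Φ.symm v)) := by
    intro j
    induction j with
    | zero => intro v; rw [pow_zero, pow_zero, AutPSU.app_one]; exact (Φ.apply_symm_apply v).symm
    | succ j ih =>
      intro v
      rw [pow_succ, AutPSU.app_mul, ih, pow_succ]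
      show Φ (((g : V →ₗ[F] V) ^ j) (Φ.symm (LinearMap.toMatrix' L *ᵥ v))) = _
      rw [hL, Φ.symm_apply_apply]
      rfl
  refine ⟨AutPSU.proj n F q s, fun j => ?_⟩
  rw [← map_pow, AutPSU.proj_eq_one_iff]
  constructor
  · intro h
    obtain ⟨c, hc⟩ := AutPSU.scalar_of_mem_center hn2 h
    refine ⟨c, fun v => Φ.injective ?_⟩
    have := hc (Φ v)
    rw [happ, Φ.symm_apply_apply] at this
    rw [this, map_smul]
  · rintro ⟨c, hc⟩
    refine AutPSU.mem_center_of_scalar (c := c) fun v => ?_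
    rw [happ, hc, map_smul, Φ.apply_symm_apply]

/-- Elements of `PSU_n(q)` come from isometries of determinant one. -/
theorem exists_iso_of_psu [Fintype F] {n : ℕ} (hn2 : 2 ≤ n) (x : Cfsg.PSU n F q) :
    ∃ g : (Fin n → F) ≃ₗ[F] (Fin n → F), Preserves (hermB n σ) g ∧
      LinearMap.det (g : (Fin n → F) →ₗ[F] (Fin n → F)) = 1 ∧
      ∀ j : ℕ, x ^ j = 1 ↔ ∃ c : F, ∀ v, ((g : (Fin n → F) →ₗ[F] (Fin n → F)) ^ j) v = c • v := by
  obtain ⟨s, rfl⟩ := AutPSU.proj_surjective (n := n) (F := F) (q := q) x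
  let g : (Fin n → F) ≃ₗ[F] (Fin n → F) :=
    Matrix.SpecialLinearGroup.toLin' (s : Matrix.SpecialLinearGroup (Fin n) F)
  have hg : ∀ v, g v = AutPSU.app s v := fun v => Matrix.SpecialLinearGroup.toLin'_apply _ v
  have hpow : ∀ (j : ℕ) v, ((g : (Fin n → F) →ₗ[F] (Fin n → F)) ^ j) v = AutPSU.app (s ^ j) v := by
    intro j
    induction j with
    | zero => intro v; rw [pow_zero, pow_zero, AutPSU.app_one]; rfl
    | succ j ih =>
      intro v
      rw [pow_succ, pow_succ, Module.End.mul_apply, ih, AutPSU.app_mul]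
      exact congrArg _ (hg v)
  refine ⟨g, fun u v => ?_, ?_, fun j => ?_⟩
  · rw [hermB_apply sigma_apply, hermB_apply sigma_apply, hg, hg]
    exact AutPSU.app_H s v u
  · have : (g : (Fin n → F) →ₗ[F] (Fin n → F)) =
        Matrix.toLin' ((s : Matrix.SpecialLinearGroup (Fin n) F) : Matrix (Fin n) (Fin n) F) :=
      LinearMap.ext fun v => by rw [Matrix.toLin'_apply]; exact hg v
    rw [this, LinearMap.det_toLin']
    exact (s : Matrix.SpecialLinearGroup (Fin n) F).2
  · rw [← map_pow, AutPSU.proj_eq_one_iff]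
    constructor
    · intro h
      obtain ⟨c, hc⟩ := AutPSU.scalar_of_mem_center hn2 h
      exact ⟨c, fun v => by rw [hpow, hc]⟩
    · rintro ⟨c, hc⟩
      exact AutPSU.mem_center_of_scalar (c := c) fun v => by rw [← hpow, hc]

theorem hermB_flip [Fintype F] (n : ℕ) : IsFlipForm σ 1 (hermB (F := F) n σ) := by
  refine ⟨fun u v => ?_, fun u h => ?_⟩
  · rw [one_mul, hermB_apply sigma_apply, hermB_apply sigma_apply]
    exact (AutPSU.H_flip (q := q) v u).symm
  · refine AutPSU.eq_zero_of_orth (q := q) fun v => ?_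
    rw [← hermB_apply sigma_apply]
    exact h v

end Unitary

section Symplectic

variable {F : Type u} [Field F] {V : Type w} [AddCommGroup V] [Module F V] [FiniteDimensional F V]

/-- Coordinates in which an alternating form is the standard one. -/
theorem exists_sp_frame {B : LinearMap.BilinForm F V} (hA : LinearMap.IsAlt B)
    (hB : LinearMap.Nondegenerate B) {m : ℕ} (hm : Module.finrank F V = 2 * m) :
    ∃ Φ : V ≃ₗ[F] (Fin m ⊕ Fin m → F), ∀ u v, B u v = spB m F (Φ u) (Φ v) := by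
  classical
  obtain ⟨m', b', h1, h2, h3⟩ := exists_symplectic_basis_nondeg hA hB
  obtain rfl : m' = m := by
    have := Module.finrank_eq_card_basis b'
    rw [Fintype.card_sum, Fintype.card_fin, hm] at this
    omega
  let b := b'.reindex (Equiv.sumComm _ _)
  refine ⟨b.equivFun, ?_⟩
  suffices h : B = (spB m' F).compl₁₂ (b.equivFun : V →ₗ[F] _) (b.equivFun : V →ₗ[F] _) from
    fun u v => by rw [h]; rfl
  refine b.ext fun i => b.ext fun j => ?_
  show B (b i) (b j) = spB m' F (b.equivFun (b i)) (b.equivFun (b j))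
  rw [spB_expand]
  rcases i with i | i <;> rcases j with j | j <;>
    simp [b, Module.Basis.equivFun_self, h1, h2, h3, ← hA.neg (b' (Sum.inl _)) (b' (Sum.inr _)),
      Finsupp.single_apply, eq_comm]

/-- An isometry of a non-degenerate alternating form gives an element of `PSp_{2m}(F)`. -/
theorem exists_psp {B : LinearMap.BilinForm F V} (hA : LinearMap.IsAlt B)
    (hB : LinearMap.Nondegenerate B) {m : ℕ} (hm : Module.finrank F V = 2 * m)
    (g : V ≃ₗ[F] V) (hg : Preserves B g) :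
    ∃ x : Cfsg.PSp m F, ∀ j : ℕ, x ^ j = 1 ↔
      ((g : V →ₗ[F] V) ^ j = 1 ∨ (g : V →ₗ[F] V) ^ j = -1) := by
  classical
  obtain ⟨Φ, hΦ⟩ := exists_sp_frame hA hB hm
  let L : (Fin m ⊕ Fin m → F) →ₗ[F] _ :=
    (Φ : V →ₗ[F] (Fin m ⊕ Fin m → F)) ∘ₗ (g : V →ₗ[F] V) ∘ₗ
      (Φ.symm : (Fin m ⊕ Fin m → F) →ₗ[F] V)
  have hL : ∀ v, LinearMap.toMatrix' L *ᵥ v = Φ (g (Φ.symm v)) := fun v => by
    rw [LinearMap.toMatrix'_mulVec]; rfl
  let s : Matrix.symplecticGroup (Fin m) F := ⟨LinearMap.toMatrix' L,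
    (mem_symplectic_iff _).2 fun u v => by
      rw [hL, hL, ← hΦ, hg, hΦ, Φ.apply_symm_apply, Φ.apply_symm_apply]⟩
  have happ : ∀ (j : ℕ) v, ((s ^ j : Matrix.symplecticGroup (Fin m) F) :
      Matrix (Fin m ⊕ Fin m) (Fin m ⊕ Fin m) F) *ᵥ v =
        Φ (((g : V →ₗ[F] V) ^ j) (Φ.symm v)) := by
    intro j
    induction j with
    | zero =>
      intro v
      rw [pow_zero, pow_zero, Submonoid.coe_one, Matrix.one_mulVec]
      exact (Φ.apply_symm_apply v).symm
    | succ j ih =>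
      intro v
      rw [pow_succ, Submonoid.coe_mul, ← Matrix.mulVec_mulVec, ih, pow_succ]
      show Φ (((g : V →ₗ[F] V) ^ j) (Φ.symm (LinearMap.toMatrix' L *ᵥ v))) = _
      rw [hL, Φ.symm_apply_apply]
      rfl
  refine ⟨AutPSp.proj m F s, fun j => ?_⟩
  rw [← map_pow, AutPSp.proj_eq_one_iff, AutPSp.mem_center_iff]
  constructor <;> rintro (h | h)
  · refine Or.inl (LinearMap.ext fun v => Φ.injective ?_)
    have := happ j (Φ v)
    rw [h, Matrix.one_mulVec, Φ.symm_apply_apply] at this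
    exact this.symm
  · refine Or.inr (LinearMap.ext fun v => Φ.injective ?_)
    have := happ j (Φ v)
    rw [h, Matrix.neg_mulVec, Matrix.one_mulVec, Φ.symm_apply_apply] at this
    rw [← this, LinearMap.neg_apply, Module.End.one_apply, map_neg]
  · refine Or.inl (Matrix.ext_iff_mulVec.2 fun v => ?_)
    rw [happ, h, Module.End.one_apply, Φ.apply_symm_apply, Matrix.one_mulVec]
  · refine Or.inr (Matrix.ext_iff_mulVec.2 fun v => ?_)
    rw [happ, h, LinearMap.neg_apply, Module.End.one_apply, map_neg, Φ.apply_symm_apply,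
      Matrix.neg_mulVec, Matrix.one_mulVec]

/-- Elements of `PSp_{2m}(F)` come from isometries. -/
theorem exists_iso_of_psp {m : ℕ} (x : Cfsg.PSp m F) :
    ∃ g : (Fin m ⊕ Fin m → F) ≃ₗ[F] (Fin m ⊕ Fin m → F), Preserves (spB m F) g ∧
      ∀ j : ℕ, x ^ j = 1 ↔ ((g : (Fin m ⊕ Fin m → F) →ₗ[F] (Fin m ⊕ Fin m → F)) ^ j = 1 ∨
        (g : (Fin m ⊕ Fin m → F) →ₗ[F] (Fin m ⊕ Fin m → F)) ^ j = -1) := by
  obtain ⟨s, rfl⟩ := QuotientGroup.mk'_surjective _ x
  let g := (spEquiv m F s).1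
  have hpow : ∀ (j : ℕ) v, ((g : (Fin m ⊕ Fin m → F) →ₗ[F] (Fin m ⊕ Fin m → F)) ^ j) v =
      ((s ^ j : Matrix.symplecticGroup (Fin m) F) :
        Matrix (Fin m ⊕ Fin m) (Fin m ⊕ Fin m) F) *ᵥ v := by
    intro j
    induction j with
    | zero => intro v; rw [pow_zero, pow_zero, Submonoid.coe_one, Matrix.one_mulVec]; rfl
    | succ j ih =>
      intro v
      rw [pow_succ, pow_succ, Module.End.mul_apply, ih, Submonoid.coe_mul, ← Matrix.mulVec_mulVec]
      rfl
  refine ⟨g, (spEquiv m F s).2, fun j => ?_⟩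
  rw [← map_pow]
  show AutPSp.proj m F (s ^ j) = 1 ↔ _
  rw [AutPSp.proj_eq_one_iff, AutPSp.mem_center_iff]
  constructor <;> rintro (h | h)
  · exact Or.inl (LinearMap.ext fun v => by rw [hpow, h, Matrix.one_mulVec]; rfl)
  · exact Or.inr (LinearMap.ext fun v => by
      rw [hpow, h, Matrix.neg_mulVec, Matrix.one_mulVec]; rfl)
  · exact Or.inl (Matrix.ext_iff_mulVec.2 fun v => by rw [← hpow, h, Matrix.one_mulVec]; rfl)
  · exact Or.inr (Matrix.ext_iff_mulVec.2 fun v => by
      rw [← hpow, h, Matrix.neg_mulVec, Matrix.one_mulVec]; rfl)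

end Symplectic

end Cfsg.Agent.FormTorus
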