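import Cfsg.Agent.Lib.Forms.Witt
import Mathlib

/-!
Models of `(σ, ε)`-forms: trace forms of field extensions, hyperbolic trace forms, orthogonal sums
and a space with a regular unipotent isometry.
-/

set_option autoImplicit false
set_option linter.unusedSectionVars false

namespace Cfsg.Agent.FormTorus

open FormsLib

variable {F : Type*} [Field F] (σ : F →+* F) (ε : F)

/-- Symmetry and non-degeneracy. -/
structure IsFlipForm {V : Type*} [AddCommGroup V] [Module F V] (B : V →ₛₗ[σ] V →ₗ[F] F) : Prop where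
  flip : ∀ v w, B w v = ε * σ (B v w)
  nondeg : ∀ v, (∀ w, B v w = 0) → v = 0

section Ext

variable {K : Type*} [Field K] [Algebra F K] (τ : K →+* K)
  (hτ : ∀ c, τ (algebraMap F K c) = algebraMap F K (σ c))

include hτ in
theorem map_smul_conj (c : F) (a : K) : τ (c • a) = σ c • τ a := by
  rw [Algebra.smul_def, map_mul, hτ, ← Algebra.smul_def]

/-- `Tr(δ τ(a) b)`. -/
noncomputable def fieldB (δ : K) : K →ₛₗ[σ] K →ₗ[F] F :=
  LinearMap.mk₂'ₛₗ σ (RingHom.id F) (fun a b => Algebra.trace F K (δ * τ a * b))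
    (fun a a' b => by rw [map_add, mul_add, add_mul, map_add])
    (fun c a b => by
      rw [map_smul_conj σ τ hτ, mul_smul_comm, smul_mul_assoc, map_smul])
    (fun a b b' => by rw [mul_add, map_add])
    (fun c a b => by rw [mul_smul_comm, map_smul, RingHom.id_apply])

theorem fieldB_apply (δ a b : K) :
    fieldB σ τ hτ δ a b = Algebra.trace F K (δ * τ a * b) := rfl

theorem fieldB_isFlip [Finite F] [Finite K] (htr : ∀ z, Algebra.trace F K (τ z) =
    σ (Algebra.trace F K z)) (hττ : ∀ a, τ (τ a) = a) (δ : K) (hδ : algebraMap F K ε * τ δ = δ)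
    (hδ0 : δ ≠ 0) : IsFlipForm σ ε (fieldB σ τ hτ δ) := by
  refine ⟨fun a b => ?_, fun a h => ?_⟩
  · rw [fieldB_apply, fieldB_apply, ← htr, ← smul_eq_mul ε, ← map_smul, Algebra.smul_def]
    congr 1
    rw [map_mul, map_mul, hττ]
    linear_combination (-(τ b * a)) * hδ
  · have hK : Module.Finite F K := Module.Finite.of_finite
    have := (traceForm_nondegenerate F K).1 (δ * τ a) fun b => by
      rw [Algebra.traceForm_apply, ← fieldB_apply σ τ hτ δ a b, h b]
    exact τ.injective (by rw [(mul_eq_zero.1 this).resolve_left hδ0, map_zero])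

theorem fieldB_mul (δ y : K) (hy : τ y * y = 1) (a b : K) :
    fieldB σ τ hτ δ (y * a) (y * b) = fieldB σ τ hτ δ a b := by
  rw [fieldB_apply, fieldB_apply, map_mul τ]
  congr 1
  linear_combination (δ * τ a * b) * hy

/-- The hyperbolic trace form on `K × K`. -/
noncomputable def pairB (hσσ : ∀ c, σ (σ c) = c) : (K × K) →ₛₗ[σ] (K × K) →ₗ[F] F :=
  LinearMap.mk₂'ₛₗ σ (RingHom.id F)
    (fun a b => Algebra.trace F K (τ a.1 * b.2) + ε * σ (Algebra.trace F K (τ b.1 * a.2)))
    (fun a a' b => by simp only [Prod.fst_add, Prod.snd_add, map_add, add_mul, mul_add]; ring)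
    (fun c a b => by
      simp only [Prod.smul_fst, Prod.smul_snd, map_smul_conj σ τ hτ, smul_mul_assoc, mul_smul_comm,
        map_smul, smul_eq_mul, map_mul]
      ring)
    (fun a b b' => by simp only [Prod.fst_add, Prod.snd_add, mul_add, add_mul, map_add]; ring)
    (fun c a b => by
      simp only [Prod.smul_fst, Prod.smul_snd, map_smul_conj σ τ hτ, smul_mul_assoc, mul_smul_comm,
        map_smul, smul_eq_mul, map_mul, hσσ, RingHom.id_apply]
      ring)

theorem pairB_apply (hσσ : ∀ c, σ (σ c) = c) (a b : K × K) :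
    pairB σ ε τ hτ hσσ a b =
      Algebra.trace F K (τ a.1 * b.2) + ε * σ (Algebra.trace F K (τ b.1 * a.2)) := rfl

theorem pairB_isFlip [Finite F] [Finite K] (hσσ : ∀ c, σ (σ c) = c)
    (hε : ε * σ ε = 1) : IsFlipForm σ ε (pairB σ ε τ hτ hσσ) := by
  refine ⟨fun a b => ?_, fun a h => ?_⟩
  · simp only [pairB_apply, map_add, map_mul, hσσ]
    linear_combination (- Algebra.trace F K (τ b.1 * a.2)) * hε
  · have hK : Module.Finite F K := Module.Finite.of_finite
    have h1 := (traceForm_nondegenerate F K).1 (τ a.1) fun b => by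
      rw [Algebra.traceForm_apply]
      simpa [pairB_apply] using h (0, b)
    have h2 := (traceForm_nondegenerate F K).1 a.2 fun b => by
      rw [Algebra.traceForm_apply]
      obtain ⟨b, rfl⟩ := (Finite.injective_iff_surjective.1 τ.injective) b
      have := h (b, 0)
      simp only [pairB_apply, mul_zero, map_zero, zero_add, mul_eq_zero] at this
      have h3 := this.resolve_left (left_ne_zero_of_mul_eq_one hε)
      rw [mul_comm]
      exact (map_eq_zero σ).1 h3
    exact Prod.ext (τ.injective (h1.trans (map_zero τ).symm)) h2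

theorem pairB_mul (hσσ : ∀ c, σ (σ c) = c) (y w : K) (hy : τ y * w = 1) (a b : K × K) :
    pairB σ ε τ hτ hσσ (y * a.1, w * a.2) (y * b.1, w * b.2) = pairB σ ε τ hτ hσσ a b := by
  simp only [pairB_apply, map_mul τ]
  congr 1
  · congr 1
    linear_combination (τ a.1 * b.2) * hy
  · congr 3
    linear_combination (τ b.1 * a.2) * hy

end Ext

section Prod

variable {V₁ V₂ : Type*} [AddCommGroup V₁] [Module F V₁] [AddCommGroup V₂] [Module F V₂]
  (B₁ : V₁ →ₛₗ[σ] V₁ →ₗ[F] F) (B₂ : V₂ →ₛₗ[σ] V₂ →ₗ[F] F)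

/-- The orthogonal sum. -/
noncomputable def prodB : (V₁ × V₂) →ₛₗ[σ] (V₁ × V₂) →ₗ[F] F :=
  LinearMap.mk₂'ₛₗ σ (RingHom.id F) (fun a b => B₁ a.1 b.1 + B₂ a.2 b.2)
    (fun a a' b => by simp only [Prod.fst_add, Prod.snd_add, map_add, LinearMap.add_apply]; ring)
    (fun c a b => by simp [map_smulₛₗ, mul_add])
    (fun a b b' => by simp only [Prod.fst_add, Prod.snd_add, map_add]; ring)
    (fun c a b => by simp [mul_add])

theorem prodB_apply (a b : V₁ × V₂) : prodB σ B₁ B₂ a b = B₁ a.1 b.1 + B₂ a.2 b.2 := rfl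

variable {σ ε B₁ B₂}

theorem prodB_isFlip (h₁ : IsFlipForm σ ε B₁) (h₂ : IsFlipForm σ ε B₂) :
    IsFlipForm σ ε (prodB σ B₁ B₂) := by
  refine ⟨fun a b => ?_, fun a h => Prod.ext (h₁.nondeg _ fun w => ?_) (h₂.nondeg _ fun w => ?_)⟩
  · rw [prodB_apply, prodB_apply, h₁.flip, h₂.flip, map_add, mul_add]
  · simpa [prodB_apply] using h (w, 0)
  · simpa [prodB_apply] using h (0, w)

theorem preserves_prodCongr {g₁ : V₁ ≃ₗ[F] V₁} {g₂ : V₂ ≃ₗ[F] V₂} (h₁ : Preserves B₁ g₁)
    (h₂ : Preserves B₂ g₂) : Preserves (prodB σ B₁ B₂) (g₁.prodCongr g₂) := fun a b => by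
  rw [prodB_apply, prodB_apply, LinearEquiv.prodCongr_apply, LinearEquiv.prodCongr_apply]
  exact congrArg₂ (· + ·) (h₁ _ _) (h₂ _ _)

end Prod

section Unipotent

open Polynomial

variable {σ ε}

/-- The cyclic module of a regular unipotent element. -/
abbrev UR (F : Type*) [Field F] (m : ℕ) : Type _ := AdjoinRoot ((X - 1 : F[X]) ^ m)

theorem finrank_UR (m : ℕ) : Module.Finite F (UR F m) ∧ Module.finrank F (UR F m) = m := by
  have h : ((X - 1 : F[X]) ^ m).Monic := by
    rw [← C_1]; exact (monic_X_sub_C 1).pow m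
  refine ⟨(AdjoinRoot.powerBasis' h).finite, ?_⟩
  rw [(AdjoinRoot.powerBasis' h).finrank, AdjoinRoot.powerBasis'_dim, ← C_1, natDegree_pow,
    natDegree_X_sub_C, mul_one]

/-- There is a form with a regular unipotent isometry on `UR F m`. -/
theorem exists_unipotent_model {m : ℕ} (hm : 1 ≤ m) (hσσ : ∀ c, σ (σ c) = c) (hε : ε * σ ε = 1)
    (hc : ∃ c : F, c + ε * (-1) ^ (m - 1) * σ c ≠ 0) :
    ∃ (B : UR F m →ₛₗ[σ] UR F m →ₗ[F] F) (g : UR F m ≃ₗ[F] UR F m),
      IsFlipForm σ ε B ∧ Preserves B g ∧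
      ∀ v, g v = AdjoinRoot.root ((X - 1 : F[X]) ^ m) * v := by
  classical
  set P : F[X] := (X - 1) ^ m with hP
  set t : UR F m := AdjoinRoot.root P with ht
  have hnil : (t - 1) ^ m = 0 := by
    have : AdjoinRoot.mk P P = 0 := AdjoinRoot.mk_self
    rwa [hP, map_pow, map_sub, map_one, AdjoinRoot.mk_X] at this
  have htu : IsUnit t := by
    have := IsNilpotent.isUnit_one_add ⟨m, hnil⟩
    rwa [add_sub_cancel] at this
  obtain ⟨tu, htu⟩ := htu
  set t' : UR F m := ((tu⁻¹ : (UR F m)ˣ) : UR F m) with ht'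
  have htt : t * t' = 1 := by rw [← htu, ht', Units.mul_inv]
  have hnil' : (t' - 1) ^ m = 0 := by
    have h1 : t' - 1 = (t - 1) * (-t') := by linear_combination htt
    rw [h1, mul_pow, hnil, zero_mul]
  have hev : eval₂ ((AdjoinRoot.of P).comp σ) t' P = 0 := by
    show eval₂ _ t' ((X - 1 : F[X]) ^ m) = 0
    rw [eval₂_pow, eval₂_sub, eval₂_X, eval₂_one, hnil']
  set bar : UR F m →+* UR F m := AdjoinRoot.lift _ t' hev with hbar
  have hbar_of : ∀ c, bar (AdjoinRoot.of P c) = AdjoinRoot.of P (σ c) :=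
    fun c => AdjoinRoot.lift_of hev
  have hbar_t : bar t = t' := AdjoinRoot.lift_root hev
  have hbar_t' : bar t' = t := by
    have h1 := congrArg bar htt
    rw [map_mul, hbar_t, map_one] at h1
    linear_combination t * h1 - (bar t') * htt
  have hbb : ∀ a, bar (bar a) = a := by
    intro a
    induction a using AdjoinRoot.induction_on with
    | ih p =>
      induction p using Polynomial.induction_on with
      | C a => rw [AdjoinRoot.mk_C, hbar_of, hbar_of, hσσ]
      | add a b ha hb => simp only [map_add, ha, hb]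
      | monomial n a _ =>
        rw [map_mul, map_pow, AdjoinRoot.mk_C, AdjoinRoot.mk_X, ← ht]
        simp only [map_mul, map_pow, hbar_t, hbar_t']
        congr 1
        exact (by rw [hbar_of, hbar_of, hσσ] : bar (bar (AdjoinRoot.of P a)) = AdjoinRoot.of P a)
  have hbar_smul : ∀ (c : F) (a : UR F m), bar (c • a) = σ c • bar a := fun c a => by
    rw [Algebra.smul_def, map_mul, AdjoinRoot.algebraMap_eq, hbar_of, Algebra.smul_def,
      AdjoinRoot.algebraMap_eq]
  -- the socle
  set s : UR F m := (t - 1) ^ (m - 1) with hs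
  have hs0 : s ≠ 0 := by
    rw [hs, ht, ← AdjoinRoot.mk_X, ← map_one (AdjoinRoot.mk P), ← map_sub, ← map_pow, Ne,
      AdjoinRoot.mk_eq_zero]
    intro h
    have := natDegree_le_of_dvd h (pow_ne_zero _ (by rw [← C_1]; exact X_sub_C_ne_zero 1))
    rw [hP, ← C_1, natDegree_pow, natDegree_pow, natDegree_X_sub_C] at this
    omega
  have hts : t * s = s := by
    have : (t - 1) * s = 0 := by
      rw [hs, ← pow_succ', Nat.sub_add_cancel hm, hnil]
    linear_combination this
  have hbs : bar s = (-1) ^ (m - 1) * s := by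
    have h1 : t' - 1 = (-1) * t' * (t - 1) := by linear_combination htt
    have h2 : ∀ k : ℕ, t' ^ k * s = s := by
      intro k
      induction k with
      | zero => rw [pow_zero, one_mul]
      | succ k ih =>
        rw [pow_succ', mul_assoc, ih]
        linear_combination (-t') * hts + s * htt
    rw [hs, map_pow, map_sub, map_one, hbar_t, h1, mul_pow, mul_pow, ← hs, mul_assoc, h2]
  obtain ⟨c₀, hc₀⟩ := hc
  obtain ⟨ℓ₀, hℓ₀⟩ : ∃ ℓ₀ : UR F m →ₗ[F] F, ℓ₀ s = c₀ := by
    let b := Module.Free.chooseBasis F (UR F m)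
    obtain ⟨i, hi⟩ : ∃ i, b.repr s i ≠ 0 := by
      by_contra h
      push Not at h
      exact hs0 (b.repr.injective (by rw [map_zero]; exact Finsupp.ext h))
    exact ⟨(c₀ / b.repr s i) • b.coord i, by simp [hi]⟩
  let ℓ : UR F m →ₗ[F] F :=
    { toFun := fun a => ℓ₀ a + ε * σ (ℓ₀ (bar a))
      map_add' := fun a b => by simp only [map_add]; ring
      map_smul' := fun c a => by
        simp only [map_smul, hbar_smul, smul_eq_mul, map_mul, hσσ, RingHom.id_apply]
        ring }
  have hℓ : ∀ a, ℓ (bar a) = ε * σ (ℓ a) := fun a => by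
    show ℓ₀ (bar a) + ε * σ (ℓ₀ (bar (bar a))) = ε * σ (ℓ₀ a + ε * σ (ℓ₀ (bar a)))
    rw [hbb, map_add, map_mul, hσσ]
    linear_combination (- ℓ₀ (bar a)) * hε
  have hℓs : ℓ s = c₀ + ε * (-1) ^ (m - 1) * σ c₀ := by
    show ℓ₀ s + ε * σ (ℓ₀ (bar s)) = _
    have : bar s = ((-1 : F) ^ (m - 1)) • s := by
      rw [hbs, Algebra.smul_def, map_pow, map_neg, map_one]
    rw [this, map_smul, smul_eq_mul, hℓ₀, map_mul, map_pow, map_neg, map_one, ← mul_assoc]
  let B : UR F m →ₛₗ[σ] UR F m →ₗ[F] F :=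
    LinearMap.mk₂'ₛₗ σ (RingHom.id F) (fun a b => ℓ (bar a * b))
      (fun a a' b => by rw [map_add, add_mul, map_add])
      (fun c a b => by rw [hbar_smul, smul_mul_assoc, map_smul])
      (fun a b b' => by rw [mul_add, map_add])
      (fun c a b => by rw [mul_smul_comm, map_smul, RingHom.id_apply])
  have hB : ∀ a b, B a b = ℓ (bar a * b) := fun _ _ => rfl
  let g : UR F m ≃ₗ[F] UR F m :=
    { LinearMap.mulLeft F t with
      invFun := fun v => t' * v
      left_inv := fun v => by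
        show t' * (t * v) = v
        rw [← mul_assoc, mul_comm t', htt, one_mul]
      right_inv := fun v => by
        show t * (t' * v) = v
        rw [← mul_assoc, htt, one_mul] }
  have hg : ∀ v, g v = t * v := fun _ => rfl
  refine ⟨B, g, ⟨fun a b => ?_, fun a ha => ?_⟩, fun a b => ?_, hg⟩
  · rw [hB, hB, ← hℓ, map_mul bar, hbb, mul_comm]
  · by_contra h0
    obtain ⟨p, hp⟩ := AdjoinRoot.mk_surjective (bar a)
    have hpd : ¬ P ∣ p := fun h => h0 (by
      rw [← hbb a, ← hp, AdjoinRoot.mk_eq_zero.2 h, map_zero])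
    have hp0 : p ≠ 0 := fun h => hpd (h ▸ dvd_zero P)
    obtain ⟨c, hpc, hcr⟩ := exists_eq_pow_rootMultiplicity_mul_and_not_dvd p hp0 (1 : F)
    set i := p.rootMultiplicity 1 with hi
    have hi' : i < m := by
      by_contra hge
      refine hpd ?_
      rw [hpc, hP, ← C_1]
      exact (pow_dvd_pow _ (not_lt.1 hge)).mul_right c
    have hirr : Irreducible (X - C (1 : F)) := irreducible_X_sub_C 1
    have hco : IsCoprime P c := by
      rw [hP, ← C_1]
      exact ((hirr.coprime_iff_not_dvd).2 hcr).pow_left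
    obtain ⟨x, y, hxy⟩ := hco
    have h1 := ha (AdjoinRoot.mk P ((X - 1) ^ (m - 1 - i) * y))
    have h2 : bar a * AdjoinRoot.mk P ((X - 1) ^ (m - 1 - i) * y) = s := by
      rw [← hp, ← map_mul, hs, ht, ← AdjoinRoot.mk_X, ← map_one (AdjoinRoot.mk P), ← map_sub,
        ← map_pow, AdjoinRoot.mk_eq_mk, hpc, ← C_1]
      refine ⟨-(x * (X - C 1) ^ (m - 1)), ?_⟩
      have he : (X - C (1 : F)) ^ (m - 1) = (X - C 1) ^ i * (X - C 1) ^ (m - 1 - i) := by
        rw [← pow_add]; congr 1; omega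
      simp only [hP, map_one] at hxy he ⊢
      linear_combination (X - (1 : F[X])) ^ i * (X - 1) ^ (m - 1 - i) * hxy +
        (x * (X - 1) ^ m - 1) * he
    rw [hB, h2, hℓs] at h1
    exact hc₀ h1
  · rw [hB, hB, hg, hg, map_mul bar, hbar_t]
    congr 1
    linear_combination (bar a * b) * htt

theorem root_pow_eq_one_iff {p : ℕ} [hp : Fact p.Prime] [CharP F p] (m f : ℕ) :
    (AdjoinRoot.root ((X - 1 : F[X]) ^ m)) ^ p ^ f = 1 ↔ m ≤ p ^ f := by
  rw [← sub_eq_zero, ← AdjoinRoot.mk_X, ← map_pow, ← map_one (AdjoinRoot.mk _), ← map_sub,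
    AdjoinRoot.mk_eq_zero]
  have : (X : F[X]) ^ p ^ f - 1 = (X - 1) ^ p ^ f := by rw [sub_pow_char_pow, one_pow]
  rw [this, ← C_1]
  exact pow_dvd_pow_iff (X_sub_C_ne_zero 1) (irreducible_X_sub_C (1 : F)).not_isUnit

end Unipotent

end Cfsg.Agent.FormTorus
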