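import Cfsg.Agent.Lib.FormTorus.Orders
import Cfsg.Agent.Lib.FormTorus.Realize

/-!
Element orders of odd order in `PSp_{2m}(q)`, `q` odd.
-/

set_option autoImplicit false
set_option linter.unusedSectionVars false

namespace Cfsg.Agent.FormTorus

open Polynomial FormsLib

section General

variable {F : Type*} [Field F] {V : Type*} [AddCommGroup V] [Module F V]

theorem isAlt_of_isFlip (h2 : (2 : F) ≠ 0) {B : LinearMap.BilinForm F V}
    (hB : IsFlipForm (RingHom.id F) (-1) B) :
    LinearMap.IsAlt B ∧ LinearMap.Nondegenerate B := by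
  refine ⟨fun v => ?_, hB.nondeg, fun v hv => hB.nondeg v fun w => ?_⟩
  · have := hB.flip v v
    simp only [RingHom.id_apply, neg_mul, one_mul] at this
    have h' : (2 : F) * B v v = 0 := by linear_combination this
    exact (mul_eq_zero.1 h').resolve_left h2
  · have := hB.flip w v
    simpa [hv w] using this

/-- An isometry trivial on one half of a dual pair is trivial. -/
theorem eq_smul_of_pair {σ : F →+* F} {ε : F} {B : V →ₛₗ[σ] V →ₗ[F] F} (hB : IsTraceForm σ ε B)
    [Finite F] [FiniteDimensional F V] {W₁ W₂ : Submodule F V} (hc : IsCompl W₁ W₂)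
    (h2 : ∀ u ∈ W₂, ∀ v ∈ W₂, B u v = 0) {h : Module.End F V}
    (hp : ∀ u v, B (h u) (h v) = B u v) (hi : ∀ v ∈ W₂, h v ∈ W₂) (h1 : ∀ v ∈ W₁, h v = v) :
    h = 1 := by
  refine LinearMap.ext fun w => ?_
  obtain ⟨u, hu, v, hv, rfl⟩ := Submodule.mem_sup.1
    (hc.sup_eq_top ▸ Submodule.mem_top : w ∈ W₁ ⊔ W₂)
  rw [map_add, h1 u hu]
  suffices h v = v by rw [this]; rfl
  refine sub_eq_zero.1 (eq_zero_of_pair hB hc.symm h2 (sub_mem (hi v hv) hv) fun w hw => ?_)
  have h' := hp v w
  rw [h1 w hw] at h'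
  rw [map_sub, LinearMap.sub_apply, h', sub_self]

/-- A nilpotent endomorphism commuting with an irreducible one. -/
theorem pow_eq_zero_of_field [FiniteDimensional F V] {f : F[X]} [Fact (Irreducible f)]
    {T N : Module.End F V} (h : aeval T f = 0) (hc : Commute N T) {j k : ℕ} (hN : N ^ j = 0)
    (hk : Module.finrank F V = f.natDegree * k) : N ^ k = 0 := by
  have hf0 : f ≠ 0 := (Fact.out : Irreducible f).ne_zero
  let φ : AdjoinRoot f →ₐ[F] Module.End F V :=
    Ideal.Quotient.liftₐ (Ideal.span {f}) (aeval T) fun a ha => by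
      obtain ⟨b, rfl⟩ := Ideal.mem_span_singleton.1 ha
      rw [map_mul, h, zero_mul]
  letI : Module (AdjoinRoot f) V := Module.compHom V φ.toRingHom
  haveI : IsScalarTower F (AdjoinRoot f) V := ⟨fun a b v => by
    show φ (a • b) v = a • φ b v
    rw [map_smul, LinearMap.smul_apply]⟩
  haveI : Module.Finite F (AdjoinRoot f) := (AdjoinRoot.powerBasis hf0).finite
  haveI : FiniteDimensional (AdjoinRoot f) V := Module.Finite.of_restrictScalars_finite F _ V
  let NK : Module.End (AdjoinRoot f) V :=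
    { toFun := N
      map_add' := map_add N
      map_smul' := fun a v => by
        induction a using AdjoinRoot.induction_on with
        | ih p =>
          show N (aeval T p v) = aeval T p (N v)
          have hcp : Commute N (aeval T p) :=
            Algebra.commute_of_mem_adjoin_singleton_of_commute (aeval_mem_adjoin_singleton F T) hc
          exact LinearMap.congr_fun hcp.eq v }
  have hpow : ∀ (i : ℕ) v, (NK ^ i) v = (N ^ i) v := by
    intro i
    induction i with
    | zero => intro v; rfl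
    | succ i ih =>
      intro v
      rw [pow_succ, pow_succ, Module.End.mul_apply, Module.End.mul_apply, ih]
      rfl
  have hz : NK ^ j = 0 := LinearMap.ext fun v => by rw [hpow, hN]; rfl
  have hfr : Module.finrank (AdjoinRoot f) V = k := by
    have := Module.finrank_mul_finrank F (AdjoinRoot f) V
    rw [hk, (AdjoinRoot.powerBasis hf0).finrank, AdjoinRoot.powerBasis_dim hf0] at this
    exact Nat.eq_of_mul_eq_mul_left (Fact.out : Irreducible f).natDegree_pos this
  have := pow_finrank_eq_zero hz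
  rw [hfr] at this
  exact LinearMap.ext fun v => by rw [← hpow, this]; rfl

theorem pow_two_mul_of_pm {T : Module.End F V} {j : ℕ}
    (h : T ^ j = 1 ∨ T ^ j = -1) : T ^ (2 * j) = 1 := by
  rw [mul_comm, pow_mul, pow_two]
  rcases h with h | h <;> rw [h] <;> exact LinearMap.ext fun v => by simp

end General

variable {F : Type*} [Field F] [Fintype F] (p : ℕ) [hp : Fact p.Prime] [hchar : CharP F p]
include hp hchar

/-- A cyclic torus element of any order dividing `q^e ± 1`, on the standard space. -/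
theorem exists_torus_iso (h2 : (2 : F) ≠ 0) {e o : ℕ} (he : 1 ≤ e)
    (ho : o ∣ Nat.card F ^ e + 1 ∨ o ∣ Nat.card F ^ e - 1) :
    ∃ g : (Fin e ⊕ Fin e → F) ≃ₗ[F] (Fin e ⊕ Fin e → F), Preserves (spB e F) g ∧
      (∀ j, en g ^ j = 1 ↔ o ∣ j) ∧ (Even o → en g ^ (o / 2) = -1) := by
  haveI : NeZero e := ⟨by omega⟩
  haveI : NeZero (2 * e) := ⟨by omega⟩
  set q := Nat.card F with hq
  have hq1 : 1 < q := Finite.one_lt_card
  -- a transport lemma
  have transport : ∀ (V : Type _) [AddCommGroup V] [Module F V] [FiniteDimensional F V]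
      (B : LinearMap.BilinForm F V), IsFlipForm (RingHom.id F) (-1) B →
      Module.finrank F V = 2 * e → ∀ g : V ≃ₗ[F] V, Preserves B g →
      (∀ j, en g ^ j = 1 ↔ o ∣ j) → (Even o → en g ^ (o / 2) = -1) →
      ∃ g : (Fin e ⊕ Fin e → F) ≃ₗ[F] (Fin e ⊕ Fin e → F), Preserves (spB e F) g ∧
      (∀ j, en g ^ j = 1 ↔ o ∣ j) ∧ (Even o → en g ^ (o / 2) = -1) := by
    intro V _ _ _ B hB hdim g hg hgj hgh
    obtain ⟨hA, hN⟩ := isAlt_of_isFlip h2 hB
    obtain ⟨Φ, hΦ⟩ := exists_sp_frame hA hN hdim
    have hpow : ∀ (j : ℕ), en ((Φ.symm.trans g).trans Φ) ^ j = Φ.conj (en g ^ j) := by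
      intro j
      induction j with
      | zero =>
        exact LinearMap.ext fun v => (Φ.apply_symm_apply v).symm
      | succ j ih =>
        rw [pow_succ, ih, pow_succ]
        refine LinearMap.ext fun v => ?_
        show Φ ((en g ^ j) (Φ.symm (Φ (g (Φ.symm v))))) = _
        rw [Φ.symm_apply_apply]
        rfl
    refine ⟨(Φ.symm.trans g).trans Φ, fun u v => ?_, fun j => ?_, fun he2 => ?_⟩
    · show spB e F (Φ (g (Φ.symm u))) (Φ (g (Φ.symm v))) = _
      rw [← hΦ, hg, hΦ, Φ.apply_symm_apply, Φ.apply_symm_apply]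
    · rw [hpow, ← hgj j]
      have : Φ.conj (1 : Module.End F V) = 1 := LinearMap.ext fun v => Φ.apply_symm_apply v
      conv_lhs => rw [← this]
      exact Φ.conj.injective.eq_iff
    · rw [hpow, hgh he2, map_neg]
      exact congrArg Neg.neg (LinearMap.ext fun v => Φ.apply_symm_apply v)
  rcases ho with ho | ho
  · -- the norm-one torus of the extension of degree `2e`
    set K := FiniteField.Extension F p (2 * e)
    have hK : Nat.card K = q ^ (2 * e) := FiniteField.natCard_extension F p _
    haveI : Finite K := Nat.finite_of_card_ne_zero (by rw [hK]; positivity)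
    haveI : Module.Finite F K := Module.Finite.of_finite
    haveI : Fintype K := Fintype.ofFinite K
    haveI : CharP K p := charP_of_injective_algebraMap (algebraMap F K).injective p
    haveI : ExpChar K p := ExpChar.prime hp.out
    obtain ⟨⟨a, ha⟩, hp', hcard⟩ := FiniteField.card F p
    replace hcard : q = p ^ a := by rw [hq, Nat.card_eq_fintype_card]; exact hcard
    let τ : K →+* K := iterateFrobenius K p (a * e)
    have hτ : ∀ z, τ z = z ^ q ^ e := fun z => by rw [hcard, ← pow_mul, iterateFrobenius_def]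
    have hτc : ∀ c, τ (algebraMap F K c) = algebraMap F K ((RingHom.id F) c) := fun c => by
      rw [hτ, ← map_pow, RingHom.id_apply, hq, Nat.card_eq_fintype_card, FiniteField.pow_card_pow]
    have hττ : ∀ z, τ (τ z) = z := fun z => by
      rw [hτ, hτ, ← pow_mul, ← pow_add, ← two_mul, ← hK, Nat.card_eq_fintype_card,
        FiniteField.pow_card]
    have htr : ∀ z, Algebra.trace F K (τ z) = (RingHom.id F) (Algebra.trace F K z) := fun z => by
      refine (algebraMap F K).injective ?_
      rw [← hτc, FiniteField.algebraMap_trace_eq_sum_pow, FiniteField.algebraMap_trace_eq_sum_pow,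
        map_sum]
      simp only [map_pow]
    obtain ⟨g0, hg0⟩ := IsCyclic.exists_generator (α := Kˣ)
    have hg0o : orderOf g0 = q ^ (2 * e) - 1 := by
      rw [orderOf_eq_card_of_forall_mem_zpowers hg0, Nat.card_units, hK]
    obtain ⟨δ, hδ0, hδ⟩ : ∃ δ : K, δ ≠ 0 ∧ τ δ = -δ := by
      have hne : ∃ z, τ z ≠ z := by
        by_contra hall
        push Not at hall
        have h1 := hall g0
        rw [hτ] at h1
        have hqe : 1 ≤ q ^ e := Nat.one_le_pow _ _ (by omega)
        have h2 : g0 ^ (q ^ e - 1) = 1 := by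
          refine Units.ext (mul_left_cancel₀ (Units.ne_zero g0) ?_)
          rw [Units.val_pow_eq_pow_val, ← pow_succ', Nat.sub_add_cancel hqe, h1, Units.val_one,
            mul_one]
        have h3 := orderOf_dvd_of_pow_eq_one h2
        rw [hg0o] at h3
        have h4 : q ^ e < q ^ (2 * e) := Nat.pow_lt_pow_right hq1 (by omega)
        have h5 : 1 < q ^ e := Nat.one_lt_pow (by omega) hq1
        have := Nat.le_of_dvd (by omega) h3
        omega
      obtain ⟨z, hz⟩ := hne
      exact ⟨z - τ z, sub_ne_zero.2 (Ne.symm hz), by rw [map_sub, hττ, neg_sub]⟩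
    have hoq : o ∣ orderOf g0 := by
      rw [hg0o, mul_comm, pow_mul]
      refine ho.trans ⟨q ^ e - 1, ?_⟩
      rw [← Nat.sq_sub_sq, one_pow]
    obtain ⟨y, hy⟩ := exists_orderOf_eq g0 hoq
    have hyy : τ (y : K) * (y : K) = 1 := by
      rw [hτ, ← pow_succ, ← Units.val_pow_eq_pow_val, orderOf_dvd_iff_pow_eq_one.1 (hy ▸ ho),
        Units.val_one]
    let g : K ≃ₗ[F] K := (LinearEquiv.smulOfUnit y).restrictScalars F
    have hgap : ∀ v : K, g v = (y : K) * v := fun v => rfl
    have hpow : ∀ (j : ℕ) (v : K), (en g ^ j) v = (y : K) ^ j * v := by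
      intro j
      induction j with
      | zero => intro v; simp
      | succ j ih =>
        intro v
        rw [pow_succ, Module.End.mul_apply, ih]
        show (y : K) ^ j * g v = _
        rw [hgap, pow_succ, mul_assoc]
    have hB := fieldB_isFlip (RingHom.id F) (-1 : F) τ hτc htr hττ δ
      (by rw [hδ, map_neg, map_one, neg_one_mul, neg_neg]) hδ0
    refine transport K (fieldB (RingHom.id F) τ hτc δ) hB (FiniteField.finrank_extension F p _) g
      (fun u v => ?_) (fun j => ?_) (fun he2 => ?_)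
    · rw [hgap, hgap]
      exact fieldB_mul (RingHom.id F) τ hτc δ _ hyy u v
    · rw [← hy, orderOf_dvd_iff_pow_eq_one]
      refine ⟨fun h => Units.ext ?_, fun h => LinearMap.ext fun v => ?_⟩
      · have := LinearMap.congr_fun h 1
        rw [hpow, mul_one] at this
        rw [Units.val_pow_eq_pow_val]
        exact this
      · rw [hpow, ← Units.val_pow_eq_pow_val, h, Units.val_one, one_mul]
        rfl
    · refine LinearMap.ext fun v => ?_
      rw [hpow, LinearMap.neg_apply, Module.End.one_apply]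
      suffices (y : K) ^ (o / 2) = -1 by rw [this, neg_one_mul]
      have hopos : 0 < o := hy ▸ orderOf_pos y
      have h1 : ((y : K) ^ (o / 2)) * ((y : K) ^ (o / 2)) = 1 := by
        rw [← pow_add, ← two_mul, Nat.two_mul_div_two_of_even he2, ← Units.val_pow_eq_pow_val, ← hy,
          pow_orderOf_eq_one, Units.val_one]
      refine (mul_self_eq_one_iff.1 h1).resolve_left fun h => ?_
      have := orderOf_dvd_of_pow_eq_one (x := y) (n := o / 2) (Units.ext (by
        rw [Units.val_pow_eq_pow_val, h, Units.val_one]))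
      rw [hy] at this
      obtain ⟨w, hw⟩ := he2
      have := Nat.le_of_dvd (by omega) this
      omega
  · -- the split torus of the extension of degree `e`
    set K := FiniteField.Extension F p e
    have hK : Nat.card K = q ^ e := FiniteField.natCard_extension F p _
    haveI : Finite K := Nat.finite_of_card_ne_zero (by rw [hK]; positivity)
    haveI : Module.Finite F K := Module.Finite.of_finite
    have hτc : ∀ c, (RingHom.id K) (algebraMap F K c) = algebraMap F K ((RingHom.id F) c) :=
      fun c => rfl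
    have hss : ∀ c : F, (RingHom.id F) ((RingHom.id F) c) = c := fun c => rfl
    obtain ⟨g0, hg0⟩ := IsCyclic.exists_generator (α := Kˣ)
    have hoq : o ∣ orderOf g0 := by
      rwa [orderOf_eq_card_of_forall_mem_zpowers hg0, Nat.card_units, hK]
    obtain ⟨y, hy⟩ := exists_orderOf_eq g0 hoq
    let g : (K × K) ≃ₗ[F] (K × K) := ((LinearEquiv.smulOfUnit y).restrictScalars F).prodCongr
      ((LinearEquiv.smulOfUnit y⁻¹).restrictScalars F)
    have hgap : ∀ v : K × K, g v = ((y : K) * v.1, ((y⁻¹ : Kˣ) : K) * v.2) := fun v => rfl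
    have hpow : ∀ (j : ℕ) (v : K × K),
        (en g ^ j) v = (((y ^ j : Kˣ) : K) * v.1, (((y ^ j)⁻¹ : Kˣ) : K) * v.2) := by
      intro j
      induction j with
      | zero => intro v; simp
      | succ j ih =>
        intro v
        rw [pow_succ, Module.End.mul_apply, ih]
        show (_ * (g v).1, _ * (g v).2) = _
        rw [hgap, pow_succ, mul_inv]
        simp only [Units.val_mul, mul_assoc]
    have hB := pairB_isFlip (RingHom.id F) (-1 : F) (RingHom.id K) hτc hss (by simp)
    refine transport (K × K) (pairB (RingHom.id F) (-1) (RingHom.id K) hτc hss) hB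
      (by rw [Module.finrank_prod, FiniteField.finrank_extension]; ring) g
      (fun u v => ?_) (fun j => ?_) (fun he2 => ?_)
    · rw [hgap, hgap]
      exact pairB_mul (RingHom.id F) (-1) (RingHom.id K) hτc hss _ _ (Units.mul_inv y) u v
    · rw [← hy, orderOf_dvd_iff_pow_eq_one]
      refine ⟨fun h => Units.ext ?_, fun h => LinearMap.ext fun v => ?_⟩
      · have := congrArg Prod.fst ((hpow j (1, 1)).symm.trans (LinearMap.congr_fun h (1, 1)))
        simpa using this
      · rw [hpow, h, inv_one, Units.val_one, one_mul, one_mul]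
        rfl
    · refine LinearMap.ext fun v => ?_
      rw [hpow, LinearMap.neg_apply, Module.End.one_apply]
      have hopos : 0 < o := hy ▸ orderOf_pos y
      have h1 : (y : K) ^ (o / 2) * (y : K) ^ (o / 2) = 1 := by
        rw [← pow_add, ← two_mul, Nat.two_mul_div_two_of_even he2, ← Units.val_pow_eq_pow_val, ← hy,
          pow_orderOf_eq_one, Units.val_one]
      have h3 : y ^ (o / 2) = -1 := Units.ext (by
        rw [Units.val_pow_eq_pow_val, Units.val_neg, Units.val_one]
        refine (mul_self_eq_one_iff.1 h1).resolve_left fun h => ?_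
        have := orderOf_dvd_of_pow_eq_one (x := y) (n := o / 2) (Units.ext (by
          rw [Units.val_pow_eq_pow_val, h, Units.val_one]))
        rw [hy] at this
        obtain ⟨w, hw⟩ := he2
        have := Nat.le_of_dvd (by omega) this
        omega)
      rw [h3, inv_neg, inv_one, Units.val_neg, Units.val_one, neg_one_mul, neg_one_mul]
      rfl

/-- A unipotent isometry of the standard space. -/
theorem exists_unipotent_iso (h2 : (2 : F) ≠ 0) {m d : ℕ} (hm : 1 ≤ m)
    (hd : d ∣ p ^ Nat.clog p (2 * m)) :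
    ∃ g : (Fin m ⊕ Fin m → F) ≃ₗ[F] (Fin m ⊕ Fin m → F), Preserves (spB m F) g ∧
      ∀ j, en g ^ j = 1 ↔ d ∣ j := by
  haveI := (finrank_UR (F := F) (2 * m)).1
  obtain ⟨B, g, hB, hg, hgv⟩ := exists_unipotent_model (F := F) (σ := RingHom.id F) (ε := -1)
    (m := 2 * m) (by omega) (fun _ => rfl) (by simp) ⟨1, by
      have hodd : Odd (2 * m - 1) := ⟨m - 1, by omega⟩
      rw [hodd.neg_one_pow, RingHom.id_apply, neg_one_mul, neg_neg, mul_one, one_add_one_eq_two]
      exact h2⟩
  obtain ⟨hA, hN⟩ := isAlt_of_isFlip h2 hB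
  obtain ⟨Φ, hΦ⟩ := exists_sp_frame hA hN (finrank_UR (F := F) (2 * m)).2
  set t := AdjoinRoot.root ((Polynomial.X - 1 : F[X]) ^ (2 * m))
  set P := p ^ Nat.clog p (2 * m) with hPdef
  have hP : t ^ P = 1 := (root_pow_eq_one_iff (2 * m) _).2 (Nat.le_pow_clog hp.out.one_lt _)
  have hto : orderOf t = P := by
    obtain ⟨e', he'⟩ : ∃ e', Nat.clog p (2 * m) = e' + 1 :=
      ⟨Nat.clog p (2 * m) - 1, by
        have := Nat.clog_pos hp.out.one_lt (show 2 ≤ 2 * m by omega); omega⟩
    rw [hPdef, he']
    refine orderOf_eq_prime_pow (fun h => ?_) (by rw [← he']; exact hP)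
    rw [root_pow_eq_one_iff] at h
    have := Nat.pow_lt_of_lt_clog (b := p) (x := 2 * m) (y := e') (by omega)
    omega
  have hpw : ∀ (j : ℕ) v, (en g ^ j) v = t ^ j * v := by
    intro j
    induction j with
    | zero => intro v; simp
    | succ j ih =>
      intro v
      rw [pow_succ, Module.End.mul_apply, ih, pow_succ, mul_assoc]
      exact congrArg _ (hgv v)
  obtain ⟨w, hw⟩ := hd
  set h := (Φ.symm.trans (g ^ w)).trans Φ with hh
  have hpow : ∀ (j : ℕ) v, (en h ^ j) v = Φ (t ^ (w * j) * Φ.symm v) := by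
    intro j
    induction j with
    | zero => intro v; simp
    | succ j ih =>
      intro v
      rw [pow_succ, Module.End.mul_apply, ih]
      show Φ (t ^ (w * j) * Φ.symm (Φ ((g ^ w) (Φ.symm v)))) = _
      rw [Φ.symm_apply_apply]
      show Φ (t ^ (w * j) * en (g ^ w) (Φ.symm v)) = _
      rw [en_pow, hpw, ← mul_assoc, ← pow_add, Nat.mul_succ]
  refine ⟨h, fun u v => ?_, fun j => ?_⟩
  · show spB m F (Φ ((g ^ w) (Φ.symm u))) (Φ ((g ^ w) (Φ.symm v))) = _
    rw [← hΦ, preserves_pow hg w, hΦ, Φ.apply_symm_apply, Φ.apply_symm_apply]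
  · have hwpos : 0 < w := by
      rcases Nat.eq_zero_or_pos w with h0 | h0
      · rw [h0, mul_zero] at hw
        exact absurd hw (pow_pos hp.out.pos _).ne'
      · exact h0
    rw [← Nat.mul_dvd_mul_iff_left hwpos, mul_comm w d, ← hw, ← hto, orderOf_dvd_iff_pow_eq_one]
    refine ⟨fun e => ?_, fun e => LinearMap.ext fun v => ?_⟩
    · have := LinearMap.congr_fun e (Φ 1)
      rw [hpow, Φ.symm_apply_apply, mul_one] at this
      exact Φ.injective this
    · rw [hpow, e, one_mul, Φ.apply_symm_apply]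
      rfl

/-- An element of `PSp_{2n}` of order `2 S P` from two blocks. -/
theorem exists_block (h2 : (2 : F) ≠ 0) {n e S P : ℕ} (he : 1 ≤ e) (hen : e < n)
    (hS : S ∣ Nat.card F ^ e + 1 ∨ S ∣ Nat.card F ^ e - 1)
    (hP : P ∣ p ^ Nat.clog p (2 * (n - e))) (hSodd : Odd S) (hPodd : Odd P) :
    ∃ x : Cfsg.PSp n F, orderOf x = 2 * Nat.lcm S P := by
  obtain ⟨g₁, hg₁, hg₁j, -⟩ := exists_torus_iso p h2 he hS
  obtain ⟨g₂, hg₂, hg₂j⟩ := exists_unipotent_iso p h2 (m := n - e) (by omega) hP
  let V₂ := Fin (n - e) ⊕ Fin (n - e) → F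
  let g₂' : V₂ ≃ₗ[F] V₂ := g₂.trans (LinearEquiv.neg F)
  have hg₂' : Preserves (spB (n - e) F) g₂' := fun u v => by
    show spB (n - e) F (-(g₂ u)) (-(g₂ v)) = _
    rw [map_neg, map_neg, LinearMap.neg_apply, neg_neg, hg₂]
  have hflip : ∀ m, IsFlipForm (RingHom.id F) (-1) (spB m F) := fun m =>
    ⟨(spB_trace (m := m) (F := F)).flip, (spB_trace (m := m) (F := F)).nondeg⟩
  obtain ⟨hA, hN⟩ := isAlt_of_isFlip h2 (prodB_isFlip (hflip e) (hflip (n - e)))
  have hdim : Module.finrank F ((Fin e ⊕ Fin e → F) × V₂) = 2 * n := by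
    rw [Module.finrank_prod]
    simp [V₂]
    omega
  obtain ⟨x, hx⟩ := exists_psp hA hN hdim (g₁.prodCongr g₂') (preserves_prodCongr hg₁ hg₂')
  have hpow : ∀ (j : ℕ) v, (en (g₁.prodCongr g₂') ^ j) v =
      ((en g₁ ^ j) v.1, (-1 : F) ^ j • (en g₂ ^ j) v.2) := by
    intro j
    induction j with
    | zero => intro v; simp
    | succ j ih =>
      intro v
      rw [pow_succ, Module.End.mul_apply, ih]
      show _ = _
      refine Prod.ext ?_ ?_
      · show (en g₁ ^ j) (g₁ v.1) = _
        rw [pow_succ, Module.End.mul_apply]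
        rfl
      · show (-1 : F) ^ j • (en g₂ ^ j) (-(g₂ v.2)) = _
        rw [pow_succ (-1 : F), pow_succ (en g₂), Module.End.mul_apply, map_neg, smul_neg,
          mul_neg_one, neg_smul]
        rfl
  set L := Nat.lcm S P with hL
  have hLodd : Odd L := by
    rw [← Nat.not_even_iff_odd, even_iff_two_dvd]
    intro h
    rcases (Nat.prime_two.dvd_mul).1 (h.trans (Nat.lcm_dvd_mul S P)) with h | h
    · exact (Nat.not_even_iff_odd.2 hSodd) (even_iff_two_dvd.2 h)
    · exact (Nat.not_even_iff_odd.2 hPodd) (even_iff_two_dvd.2 h)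
  refine ⟨x, Nat.dvd_antisymm ?_ ?_⟩
  · refine orderOf_dvd_of_pow_eq_one ((hx _).2 (Or.inl (LinearMap.ext fun v => ?_)))
    rw [hpow, (hg₁j _).2 ((Nat.dvd_lcm_left S P).mul_left 2),
      (hg₂j _).2 ((Nat.dvd_lcm_right S P).mul_left 2), pow_mul, neg_one_sq, one_pow, one_smul]
    rfl
  · set j := orderOf x
    have hj := (hx _).1 (pow_orderOf_eq_one x)
    have h2j : en (g₁.prodCongr g₂') ^ (2 * j) = 1 := pow_two_mul_of_pm hj
    have hS2 : S ∣ 2 * j := (hg₁j _).1 (LinearMap.ext fun u => by
      have := congrArg Prod.fst ((hpow (2 * j) (u, 0)).symm.trans (LinearMap.congr_fun h2j (u, 0)))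
      simpa using this)
    have hP2 : P ∣ 2 * j := (hg₂j _).1 (LinearMap.ext fun u => by
      have := congrArg Prod.snd ((hpow (2 * j) (0, u)).symm.trans (LinearMap.congr_fun h2j (0, u)))
      simpa [pow_mul] using this)
    have hSj : S ∣ j := ((Nat.coprime_two_right.2 hSodd)).dvd_of_dvd_mul_left hS2
    have hPj : P ∣ j := ((Nat.coprime_two_right.2 hPodd)).dvd_of_dvd_mul_left hP2
    refine (Nat.coprime_two_left.2 hLodd).mul_dvd_of_dvd_of_dvd ?_ (Nat.lcm_dvd hSj hPj)
    rw [← even_iff_two_dvd]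
    by_contra hodd
    rw [Nat.not_even_iff_odd] at hodd
    haveI : Nonempty (Fin e) := ⟨⟨0, he⟩⟩
    haveI : Nonempty (Fin (n - e)) := ⟨⟨0, by omega⟩⟩
    have hne1 : ∀ a : F, a = -1 → a ≠ 1 := fun a ha h1 => h2 (by
      rw [h1] at ha; linear_combination ha)
    rcases hj with h | h
    · have := congrArg Prod.snd ((hpow j (0, fun _ => 1)).symm.trans
        (LinearMap.congr_fun h (0, fun _ => 1)))
      rw [(hg₂j _).2 hPj, hodd.neg_one_pow] at this
      exact hne1 _ rfl (by simpa using congrFun this (Sum.inl ⟨0, by omega⟩))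
    · have := congrArg Prod.fst ((hpow j ((fun _ => 1), 0)).symm.trans
        (LinearMap.congr_fun h ((fun _ => 1), 0)))
      rw [(hg₁j _).2 hSj] at this
      exact hne1 _ rfl (by simpa using (congrFun this (Sum.inl ⟨0, he⟩)).symm)

/-- An element of `PSp_{2n}` of order `o / gcd(o, 2)` for `o` dividing `q^n ± 1`. -/
theorem exists_torus_psp (h2 : (2 : F) ≠ 0) {n o : ℕ} (hn : 1 ≤ n)
    (ho : o ∣ Nat.card F ^ n + 1 ∨ o ∣ Nat.card F ^ n - 1) :
    ∃ x : Cfsg.PSp n F, orderOf x = if Even o then o / 2 else o := by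
  obtain ⟨g, hg, hgj, hgh⟩ := exists_torus_iso p h2 hn ho
  obtain ⟨x, hx⟩ := exists_psp (m := n) (spB_alt (m := n) (F := F)) spB_nondeg
    (by simp [two_mul]) g hg
  refine ⟨x, ?_⟩
  haveI : Nonempty (Fin n) := ⟨⟨0, hn⟩⟩
  have hneg : ∀ j, en g ^ j = -1 → ¬ (o ∣ j) := fun j h hd => by
    have h1 := LinearMap.congr_fun (h.symm.trans ((hgj j).2 hd)) (fun _ => 1)
    exact h2 (by
      have := congrFun h1 (Sum.inl ⟨0, hn⟩)
      simp at this
      linear_combination -this)
  split_ifs with hev
  · obtain ⟨w, hw⟩ := hev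
    refine Nat.dvd_antisymm (orderOf_dvd_of_pow_eq_one ((hx _).2 (Or.inr (hgh ⟨w, hw⟩)))) ?_
    have h2j : en g ^ (2 * orderOf x) = 1 := pow_two_mul_of_pm ((hx _).1 (pow_orderOf_eq_one x))
    have := (hgj _).1 h2j
    rw [hw, ← two_mul] at this ⊢
    rw [Nat.mul_div_cancel_left _ two_pos]
    exact Nat.dvd_of_mul_dvd_mul_left two_pos this
  · refine Nat.dvd_antisymm (orderOf_dvd_of_pow_eq_one ((hx _).2 (Or.inl ((hgj _).2 dvd_rfl)))) ?_
    rcases (hx _).1 (pow_orderOf_eq_one x) with h | h
    · exact (hgj _).1 h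
    · exfalso
      have h2j : en g ^ (2 * orderOf x) = 1 := pow_two_mul_of_pm (Or.inr h)
      exact hneg _ h ((Nat.coprime_two_right.2 (Nat.not_even_iff_odd.1 hev)).dvd_of_dvd_mul_left
        ((hgj _).1 h2j))

end Cfsg.Agent.FormTorus
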