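import Cfsg.Agent.Lib.FormTorus.Orders
import Cfsg.Agent.Lib.FormTorus.Realize

/-!
The cyclic torus of order `|q^n - (-1)^n| / (q+1)` of `SU_n(q)` and the arithmetic of its order.
-/

set_option autoImplicit false
set_option linter.unusedSectionVars false

namespace Cfsg.Agent.FormTorus

open Polynomial FormsLib Finset

/-- `1 + (-q) + … + (-q)^(n-1)`. -/
def sT (q n : ℕ) : ℤ := ∑ i ∈ range n, (-(q : ℤ)) ^ i

/-- The order of the cyclic torus of `SU_n(q)`. -/
def tA (q n : ℕ) : ℕ := (sT q n).natAbs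

/-- The order of its image in `PSU_n(q)`. -/
def tM (q n : ℕ) : ℕ := tA q n / (tA q n).gcd (q + 1)

theorem sT_mul (q n : ℕ) : sT q n * (-(q : ℤ) - 1) = (-(q : ℤ)) ^ n - 1 := geom_sum_mul _ n

theorem sT_odd {q n : ℕ} (hn : Odd n) : sT q n * ((q : ℤ) + 1) = (q : ℤ) ^ n + 1 := by
  have := sT_mul q n
  rw [hn.neg_pow] at this
  linear_combination -this

theorem sT_even {q n : ℕ} (hn : Even n) : sT q n * ((q : ℤ) + 1) = 1 - (q : ℤ) ^ n := by
  have := sT_mul q n
  rw [hn.neg_pow] at this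
  linear_combination -this

theorem tA_odd {q n : ℕ} (hn : Odd n) : tA q n * (q + 1) = q ^ n + 1 := by
  have h := congrArg Int.natAbs (sT_odd (q := q) hn)
  rw [Int.natAbs_mul] at h
  norm_cast at h

theorem tA_even {q n : ℕ} (hq : 1 ≤ q) (hn : Even n) : tA q n * (q + 1) = q ^ n - 1 := by
  have h := congrArg Int.natAbs (sT_even (q := q) hn)
  have h1 : (1 : ℤ) - (q : ℤ) ^ n = -((q ^ n - 1 : ℕ) : ℤ) := by
    rw [Nat.cast_sub (Nat.one_le_pow _ _ hq)]
    push_cast
    ring
  rw [Int.natAbs_mul, h1, Int.natAbs_neg, Int.natAbs_natCast] at h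
  rwa [show ((q : ℤ) + 1).natAbs = q + 1 from by norm_cast] at h

theorem tA_coprime {q n p a : ℕ} (hp : p.Prime) (hq : q = p ^ a) (ha : 1 ≤ a) (hn : 1 ≤ n) :
    Nat.Coprime p (tA q n) := by
  rw [hp.coprime_iff_not_dvd]
  intro h
  have hpq : p ∣ q ^ n := hq ▸ dvd_pow (dvd_pow_self p (by omega)) (by omega)
  have h1 : p ∣ tA q n * (q + 1) := h.mul_right _
  have hq1 : 1 ≤ q := hq ▸ Nat.one_le_pow _ _ hp.pos
  rcases Nat.even_or_odd n with he | ho
  · rw [tA_even hq1 he] at h1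
    have := Nat.dvd_sub hpq h1
    rw [Nat.sub_sub_self (Nat.one_le_pow _ _ hq1)] at this
    exact hp.not_dvd_one this
  · rw [tA_odd ho] at h1
    exact hp.not_dvd_one ((Nat.dvd_add_right hpq).1 h1)

theorem tM_dvd_tA (q n : ℕ) : tM q n ∣ tA q n := Nat.div_dvd_of_dvd (Nat.gcd_dvd_left _ _)

theorem tM_coprime {q n p a : ℕ} (hp : p.Prime) (hq : q = p ^ a) (ha : 1 ≤ a) (hn : 1 ≤ n) :
    Nat.Coprime p (tM q n) := (tA_coprime hp hq ha hn).coprime_dvd_right (tM_dvd_tA q n)

theorem tA_dvd_tM_mul (q n : ℕ) : tA q n ∣ tM q n * (q + 1) := by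
  obtain ⟨c, hc⟩ := Nat.gcd_dvd_right (tA q n) (q + 1)
  refine ⟨c, ?_⟩
  conv_lhs => rw [hc, ← mul_assoc]
  rw [tM, Nat.div_mul_cancel (Nat.gcd_dvd_left _ _)]

theorem tM_dvd_of_dvd {q n j : ℕ} (h : tA q n ∣ j * (q + 1)) : tM q n ∣ j := by
  rcases Nat.eq_zero_or_pos (tA q n) with h0 | h0
  · rw [h0, zero_dvd_iff, Nat.mul_eq_zero] at h
    simp [h.resolve_right (by omega)]
  obtain ⟨c, hc⟩ := Nat.gcd_dvd_right (tA q n) (q + 1)
  set g := (tA q n).gcd (q + 1) with hg
  have hgpos : 0 < g := Nat.gcd_pos_of_pos_left _ h0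
  have hco : Nat.Coprime (tM q n) c := by
    have := Nat.coprime_div_gcd_div_gcd (m := tA q n) (n := q + 1) hgpos
    rwa [show (q + 1) / g = c by rw [hc, Nat.mul_div_cancel_left _ hgpos]] at this
  refine hco.dvd_of_dvd_mul_right (Nat.dvd_of_mul_dvd_mul_right hgpos ?_)
  rw [tM, Nat.div_mul_cancel (Nat.gcd_dvd_left _ _), mul_assoc, mul_comm c g, ← hc]
  exact h

theorem tA_dvd {q D k o : ℕ} (h1 : (o : ℤ) ∣ sT q D * k)
    (h2 : (o : ℤ) ∣ sT q D * (-(q : ℤ) - 1)) : o ∣ tA q (D * k) := by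
  rw [tA, ← Int.natCast_dvd]
  set Q : ℤ := -(q : ℤ) with hQ
  have h : sT q (D * k) = sT q D * ∑ i ∈ range k, (Q ^ D) ^ i := by
    refine mul_right_cancel₀ (b := Q - 1) (by omega) ?_
    rw [sT_mul, mul_right_comm, sT_mul, ← hQ, mul_geom_sum, pow_mul]
  have hd : Q - 1 ∣ (∑ i ∈ range k, (Q ^ D) ^ i) - (k : ℤ) := by
    have : (∑ i ∈ range k, (Q ^ D) ^ i) - (k : ℤ) = ∑ i ∈ range k, ((Q ^ D) ^ i - 1) := by
      simp [Finset.sum_sub_distrib]
    rw [this]
    exact Finset.dvd_sum fun i _ => by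
      rw [← pow_mul]
      simpa using sub_dvd_pow_sub_pow Q 1 (D * i)
  obtain ⟨t, ht⟩ := hd
  rw [h, show (∑ i ∈ range k, (Q ^ D) ^ i) = (k : ℤ) + (Q - 1) * t by linear_combination ht,
    mul_add, ← mul_assoc]
  exact dvd_add h1 (h2.mul_right t)

variable {F : Type*} [Field F] {q : ℕ}

/-- Elements of norm-one order in an extension come from `F`. -/
theorem exists_of_pow_q1 [Finite F] (hF : Nat.card F = q ^ 2) (hq : 1 ≤ q) {K : Type*} [Field K]
    (i : F →+* K) {y : K} (hy : y ^ (q + 1) = 1) : ∃ c : F, i c = y ∧ c ^ (q + 1) = 1 := by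
  obtain ⟨g, hg⟩ := IsCyclic.exists_generator (α := Fˣ)
  have hord : orderOf g = (q - 1) * (q + 1) := by
    rw [orderOf_eq_card_of_forall_mem_zpowers hg, Nat.card_units, hF, pow_two]
    rcases q with - | q
    · omega
    · simp only [Nat.add_sub_cancel]
      rw [Nat.mul_comm q, Nat.add_mul, Nat.one_mul]
      ring_nf
      omega
  have hpos : 1 ≤ q - 1 := by
    by_contra h
    have := orderOf_pos g
    rw [hord, show q - 1 = 0 by omega, zero_mul] at this
    omega
  have h1 : orderOf (g ^ (q - 1)) = q + 1 := by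
    rw [orderOf_pow' g (by omega : q - 1 ≠ 0), hord, Nat.gcd_eq_right (Dvd.intro _ rfl),
      Nat.mul_div_cancel_left _ hpos]
  have hz : IsPrimitiveRoot (i ((g ^ (q - 1) : Fˣ) : F)) (q + 1) := by
    have := IsPrimitiveRoot.orderOf ((g ^ (q - 1) : Fˣ) : F)
    rw [orderOf_units, h1] at this
    exact this.map_of_injective i.injective
  obtain ⟨e, -, he⟩ := hz.eq_pow_of_pow_eq_one hy
  exact ⟨((g ^ (q - 1) : Fˣ) : F) ^ e, by rw [map_pow, he], i.injective (by
    rw [map_pow, map_pow, he, hy, map_one])⟩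

theorem geom_q2 (q d : ℕ) (hd : Odd d) :
    ∃ t : ℤ, (∑ i ∈ range d, ((q : ℤ) ^ 2) ^ i) = sT q d * (1 + ((q : ℤ) + 1) * t) := by
  have hU : ((q : ℤ) + 1) ∣ (∑ i ∈ range d, (q : ℤ) ^ i) - 1 := by
    have h1 : (∑ i ∈ range d, (-1 : ℤ) ^ i) = 1 := by
      rw [neg_one_geom_sum, if_neg (Nat.not_even_iff_odd.2 hd)]
    have h2 : ((q : ℤ) + 1) ∣
        (∑ i ∈ range d, (q : ℤ) ^ i) - ∑ i ∈ range d, (-1 : ℤ) ^ i := by
      rw [← Finset.sum_sub_distrib]
      exact Finset.dvd_sum fun i _ => by simpa using sub_dvd_pow_sub_pow (q : ℤ) (-1) i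
    rwa [h1] at h2
  obtain ⟨t, ht⟩ := hU
  refine ⟨t, ?_⟩
  rw [← ht, add_sub_cancel]
  rcases eq_or_ne (q : ℤ) 1 with hq | hq
  · have e : sT q d = 1 := by
      rw [sT, hq, neg_one_geom_sum, if_neg (Nat.not_even_iff_odd.2 hd)]
    rw [e, hq]
    simp
  refine mul_right_cancel₀ (b := ((q : ℤ) ^ 2 - 1)) ?_ ?_
  · intro h0
    exact hq (by nlinarith [sq_nonneg ((q : ℤ) - 1), (Int.natCast_nonneg q)])
  · rw [geom_sum_mul, show ((q : ℤ) ^ 2 - 1) = ((q : ℤ) + 1) * ((q : ℤ) - 1) by ring,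
      mul_mul_mul_comm, sT_odd hd, geom_sum_mul, ← pow_mul, mul_comm 2 d, pow_mul]
    ring

theorem cast_dvd_of_pow {M : Type*} [Monoid M] {x : M} {m : ℕ} (h : x ^ m = 1) :
    (orderOf x : ℤ) ∣ (m : ℤ) := Int.natCast_dvd_natCast.2 (orderOf_dvd_of_pow_eq_one h)

theorem sum_sq_cast (q d : ℕ) :
    (((∑ i ∈ range d, (q ^ 2) ^ i : ℕ)) : ℤ) = ∑ i ∈ range d, ((q : ℤ) ^ 2) ^ i := by
  push_cast; rfl

theorem sum_sq_mul (q d : ℕ) :
    (∑ i ∈ range d, ((q : ℤ) ^ 2) ^ i) * ((q : ℤ) - 1) = - sT q (2 * d) := by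
  refine mul_right_cancel₀ (b := (q : ℤ) + 1) (by omega) ?_
  rw [neg_mul, sT_even (even_two_mul d), mul_assoc,
    show ((q : ℤ) - 1) * ((q : ℤ) + 1) = (q : ℤ) ^ 2 - 1 by ring, geom_sum_mul, ← pow_mul]
  ring

/-- The self-dual irreducible case. -/
theorem pow_tA_field {K : Type*} [Monoid K] {x : K} {d k : ℕ} (hd : Odd d)
    (h1 : x ^ (q ^ d + 1) = 1) (h2 : (x ^ ∑ i ∈ range d, (q ^ 2) ^ i) ^ k = 1) :
    x ^ tA q (d * k) = 1 := by
  rw [← orderOf_dvd_iff_pow_eq_one]
  have e1 := cast_dvd_of_pow h1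
  push_cast at e1
  rw [← pow_mul] at h2
  have e2 := cast_dvd_of_pow h2
  rw [Nat.cast_mul, sum_sq_cast] at e2
  obtain ⟨t, ht⟩ := geom_q2 q d hd
  rw [ht] at e2
  have e3 : (orderOf x : ℤ) ∣ sT q d * ((q : ℤ) + 1) := by rw [sT_odd hd]; exact e1
  refine tA_dvd ?_ (by rw [show -(q : ℤ) - 1 = -((q : ℤ) + 1) by ring, mul_neg, dvd_neg]; exact e3)
  have e4 := dvd_sub e2 (e3.mul_right (t * k))
  have e5 : sT q d * (1 + ((q : ℤ) + 1) * t) * k - sT q d * ((q : ℤ) + 1) * (t * k) = sT q d * k := by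
    ring
  rwa [e5] at e4

/-- The pair case. -/
theorem pow_tA_pair (hq : 1 ≤ q) {K : Type*} [Monoid K] {x : K} {d k : ℕ}
    (h1 : x ^ ((q ^ 2) ^ d - 1) = 1)
    (h2 : ((x ^ ∑ i ∈ range d, (q ^ 2) ^ i) ^ k) ^ (q - 1) = 1) :
    x ^ tA q (2 * d * k) = 1 := by
  rw [← orderOf_dvd_iff_pow_eq_one]
  have e1 := cast_dvd_of_pow h1
  rw [Nat.cast_sub (Nat.one_le_pow _ _ (pow_pos hq 2))] at e1
  push_cast at e1
  rw [← pow_mul] at e1
  rw [← pow_mul, ← pow_mul] at h2
  have e2 := cast_dvd_of_pow h2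
  rw [Nat.cast_mul, Nat.cast_mul, sum_sq_cast, Nat.cast_sub hq, Nat.cast_one] at e2
  refine tA_dvd ?_ ?_
  · have : (∑ i ∈ range d, ((q : ℤ) ^ 2) ^ i) * ((k : ℤ) * ((q : ℤ) - 1)) = -(sT q (2 * d) * k) := by
      linear_combination (k : ℤ) * sum_sq_mul q d
    rw [this, dvd_neg] at e2
    exact e2
  · rw [sT_mul, (even_two_mul d).neg_pow]
    exact e1

section Torus

variable [Fintype F] (p a : ℕ) [hp : Fact p.Prime] [CharP F p]

/-- `PSU_n(q)` has an element of order `tM q n`. -/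
theorem exists_torus [AutPSU.QField F q] (hq : q = p ^ a) (ha : 1 ≤ a) {n : ℕ} (hn : 2 ≤ n) :
    ∃ x : Cfsg.PSU n F q, orderOf x = tM q n := by
  have hF : Nat.card F = q ^ 2 := AutPSU.QField.card
  have hq2 : 2 ≤ q := AutPSU.QField.two_le F
  set s0 : F →+* F := ((AutPSU.qb (F := F) q : F ≃+* F) : F →+* F) with hs0
  have hs : ∀ c, s0 c = c ^ q := fun c => AutPSU.qb_apply c
  have hss : ∀ c, s0 (s0 c) = c := fun c => AutPSU.qb_qb c
  rcases Nat.even_or_odd n with he | ho
  · obtain ⟨m, rfl⟩ := he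
    haveI : NeZero m := ⟨by omega⟩
    set K := FiniteField.Extension F p m
    have hK : Nat.card K = (q ^ 2) ^ m := by rw [FiniteField.natCard_extension, hF]
    have hfr : Module.finrank F K = m := FiniteField.finrank_extension F p m
    haveI : Finite K := Nat.finite_of_card_ne_zero (by rw [hK]; positivity)
    haveI : Module.Finite F K := Module.Finite.of_finite
    haveI : CharP K p := charP_of_injective_algebraMap (algebraMap F K).injective p
    haveI : ExpChar K p := ExpChar.prime hp.out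
    let τ : K →+* K := iterateFrobenius K p a
    have hτ : ∀ z, τ z = z ^ q := fun z => by rw [hq, iterateFrobenius_def]
    have hτc : ∀ c, τ (algebraMap F K c) = algebraMap F K (s0 c) := fun c => by
      rw [hτ, hs, map_pow]
    obtain ⟨g0, hg0⟩ := IsCyclic.exists_generator (α := Kˣ)
    have hA : tA q (m + m) * (q + 1) = q ^ (m + m) - 1 := tA_even (by omega) ⟨m, rfl⟩
    have hord : orderOf g0 = tA q (m + m) * (q + 1) := by
      rw [orderOf_eq_card_of_forall_mem_zpowers hg0, Nat.card_units, hK, hA, ← pow_mul, two_mul]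
    set y : Kˣ := g0 ^ (q + 1) with hy
    have hyo : orderOf y = tA q (m + m) := by
      rw [hy, orderOf_pow' g0 (by omega : q + 1 ≠ 0), hord, Nat.gcd_eq_right (Dvd.intro_left _ rfl),
        Nat.mul_div_cancel _ (by omega)]
    let w : Kˣ := (y ^ q)⁻¹
    have hyw : τ (y : K) * (w : K) = 1 := by
      rw [hτ, ← Units.val_pow_eq_pow_val, Units.mul_inv]
    let g : (K × K) ≃ₗ[F] (K × K) :=
      (LinearEquiv.smulOfUnit y).restrictScalars F |>.prodCongr
        ((LinearEquiv.smulOfUnit w).restrictScalars F)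
    have hgap : ∀ v : K × K, g v = ((y : K) * v.1, (w : K) * v.2) := fun v => rfl
    have hpow : ∀ (j : ℕ) (v : K × K),
        ((g : (K × K) →ₗ[F] (K × K)) ^ j) v = ((y : K) ^ j * v.1, (w : K) ^ j * v.2) := by
      intro j
      induction j with
      | zero => intro v; simp
      | succ j ih =>
        intro v
        rw [pow_succ, Module.End.mul_apply, ih]
        show ((y : K) ^ j * (g v).1, (w : K) ^ j * (g v).2) = _
        rw [hgap, pow_succ, pow_succ, mul_assoc, mul_assoc]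
    have hgl : (g : (K × K) →ₗ[F] (K × K)) =
        LinearMap.prodMap (LinearMap.mulLeft F (y : K)) (LinearMap.mulLeft F (w : K)) := rfl
    have hnorm : Algebra.norm F (y : K) ^ (q - 1) = 1 := by
      refine (algebraMap F K).injective ?_
      rw [map_pow, FiniteField.algebraMap_norm_eq_pow_sum, hfr, hF, ← pow_mul, map_one]
      have h1 : (∑ i ∈ range m, (q ^ 2) ^ i) * (q - 1) = tA q (m + m) := by
        have h2 : ((∑ i ∈ range m, (q ^ 2) ^ i) * (q - 1)) * (q + 1) = tA q (m + m) * (q + 1) := by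
          rw [hA, mul_assoc, ← two_mul, pow_mul]
          have : (q - 1) * (q + 1) = q ^ 2 - 1 := by
            rw [mul_comm, ← Nat.sq_sub_sq]
          rw [this]
          exact geom_sum_mul_of_one_le (Nat.one_le_pow _ _ (by omega)) m
        exact Nat.eq_of_mul_eq_mul_right (by omega) h2
      rw [h1, ← hyo, ← Units.val_pow_eq_pow_val, pow_orderOf_eq_one, Units.val_one]
    have hdet : LinearMap.det (g : (K × K) →ₗ[F] (K × K)) = 1 := by
      rw [hgl, LinearMap.det_prodMap]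
      show Algebra.norm F (y : K) * Algebra.norm F (w : K) = 1
      have h1 : Algebra.norm F (y : K) ^ q * Algebra.norm F (w : K) = 1 := by
        rw [← map_pow, ← map_mul, ← hτ, hyw, map_one]
      have h2 : Algebra.norm F (y : K) ^ q = Algebra.norm F (y : K) := by
        conv_lhs => rw [show q = q - 1 + 1 by omega, pow_succ, hnorm, one_mul]
      rwa [h2] at h1
    have hB := pairB_isFlip s0 (1 : F) τ hτc hss (by simp)
    have hgp : Preserves (pairB s0 (1 : F) τ hτc hss) g := fun u v => by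
      rw [hgap, hgap]
      exact pairB_mul s0 1 τ hτc hss _ _ hyw u v
    have hdim : Module.finrank F (K × K) = m + m := by
      rw [Module.finrank_prod, hfr]
    obtain ⟨x, hx⟩ := exists_psu hB hn hdim g hgp hdet
    refine ⟨x, Nat.dvd_antisymm ?_ ?_⟩
    · refine orderOf_dvd_of_pow_eq_one ((hx _).2 ?_)
      have h1 : ((y : K) ^ tM q (m + m)) ^ (q + 1) = 1 := by
        rw [← pow_mul, ← Units.val_pow_eq_pow_val, orderOf_dvd_iff_pow_eq_one.1
          (hyo ▸ tA_dvd_tM_mul q (m + m)), Units.val_one]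
      obtain ⟨c, hc, hc1⟩ := exists_of_pow_q1 hF (by omega) (algebraMap F K) h1
      refine ⟨c, fun v => ?_⟩
      have hw : (w : K) ^ tM q (m + m) = algebraMap F K c := by
        have h2 : (τ (y : K)) ^ tM q (m + m) * (w : K) ^ tM q (m + m) = 1 := by
          rw [← mul_pow, hyw, one_pow]
        rw [hτ, pow_right_comm, ← hc, ← map_pow] at h2
        have hcne : c ≠ 0 := fun e => by rw [e, zero_pow (by omega)] at hc1; exact zero_ne_one hc1
        refine mul_left_cancel₀ ((_root_.map_ne_zero (algebraMap F K)).2 (pow_ne_zero q hcne)) ?_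
        rw [h2, ← map_mul, ← pow_succ, hc1, map_one]
      rw [hpow, ← hc, hw]
      exact Prod.ext (Algebra.smul_def c v.1).symm (Algebra.smul_def c v.2).symm
    · obtain ⟨c, hc⟩ := (hx _).1 (pow_orderOf_eq_one x)
      have h1 := hc (1, 1)
      rw [hpow] at h1
      have e1 : (y : K) ^ orderOf x = algebraMap F K c := by
        simpa [Algebra.smul_def] using congrArg Prod.fst h1
      have e2 : (w : K) ^ orderOf x = algebraMap F K c := by
        simpa [Algebra.smul_def] using congrArg Prod.snd h1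
      have e3 : ((y : K) ^ orderOf x) ^ (q + 1) = 1 := by
        rw [pow_succ]
        nth_rewrite 2 [e1]
        rw [← e2, pow_right_comm, ← mul_pow, ← hτ, hyw, one_pow]
      refine tM_dvd_of_dvd (hyo ▸ orderOf_dvd_of_pow_eq_one (Units.ext ?_))
      rw [Units.val_pow_eq_pow_val, Units.val_one, pow_mul, e3]
  · haveI : NeZero n := ⟨by omega⟩
    set K := FiniteField.Extension F p n
    have hK : Nat.card K = (q ^ 2) ^ n := by rw [FiniteField.natCard_extension, hF]
    have hfr : Module.finrank F K = n := FiniteField.finrank_extension F p n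
    haveI : Finite K := Nat.finite_of_card_ne_zero (by rw [hK]; positivity)
    haveI : Module.Finite F K := Module.Finite.of_finite
    haveI : Fintype K := Fintype.ofFinite K
    haveI : CharP K p := charP_of_injective_algebraMap (algebraMap F K).injective p
    haveI : ExpChar K p := ExpChar.prime hp.out
    let τ : K →+* K := iterateFrobenius K p (a * n)
    have hτ : ∀ z, τ z = z ^ q ^ n := fun z => by
      rw [hq, ← pow_mul, iterateFrobenius_def]
    have hodd : ∀ c : F, c ^ q ^ n = c ^ q := by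
      obtain ⟨e, rfl⟩ := ho
      intro c
      rw [pow_succ, pow_mul, pow_mul, ← hF, Nat.card_eq_fintype_card, FiniteField.pow_card_pow]
    have hτc : ∀ c, τ (algebraMap F K c) = algebraMap F K (s0 c) := fun c => by
      rw [hτ, ← map_pow, hodd, hs]
    have hττ : ∀ z, τ (τ z) = z := fun z => by
      rw [hτ, hτ, ← pow_mul, ← pow_two, ← pow_mul, mul_comm n 2, pow_mul, ← hK,
        Nat.card_eq_fintype_card, FiniteField.pow_card]
    have htr : ∀ z, Algebra.trace F K (τ z) = s0 (Algebra.trace F K z) := fun z => by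
      refine (algebraMap F K).injective ?_
      rw [← hτc, FiniteField.algebraMap_trace_eq_sum_pow, FiniteField.algebraMap_trace_eq_sum_pow,
        map_sum]
      simp only [map_pow]
    obtain ⟨g0, hg0⟩ := IsCyclic.exists_generator (α := Kˣ)
    have hA : tA q n * (q + 1) = q ^ n + 1 := tA_odd ho
    have hq1 : 1 ≤ q ^ n := Nat.one_le_pow _ _ (by omega)
    have hord : orderOf g0 = (q ^ n - 1) * (q ^ n + 1) := by
      rw [orderOf_eq_card_of_forall_mem_zpowers hg0, Nat.card_units, hK, mul_comm,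
        ← Nat.sq_sub_sq, one_pow, ← pow_mul, ← pow_mul, mul_comm n 2]
    have hqn : 1 < q ^ n := Nat.one_lt_pow (by omega) (by omega)
    set y : Kˣ := g0 ^ ((q ^ n - 1) * (q + 1)) with hy
    have hyo : orderOf y = tA q n := by
      have hne : (q ^ n - 1) * (q + 1) ≠ 0 := Nat.mul_ne_zero (by omega) (by omega)
      have hsplit : (q ^ n - 1) * (q ^ n + 1) = ((q ^ n - 1) * (q + 1)) * tA q n := by
        rw [← hA]; ring
      rw [hy, orderOf_pow' g0 hne, hord, hsplit, Nat.gcd_eq_right (Dvd.intro _ rfl),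
        Nat.mul_div_cancel_left _ (Nat.pos_of_ne_zero hne)]
    have hyy : τ (y : K) * (y : K) = 1 := by
      rw [hτ, ← pow_succ, ← Units.val_pow_eq_pow_val, orderOf_dvd_iff_pow_eq_one.1
        (hyo ▸ Dvd.intro _ hA), Units.val_one]
    let g : K ≃ₗ[F] K := (LinearEquiv.smulOfUnit y).restrictScalars F
    have hgap : ∀ v : K, g v = (y : K) * v := fun v => rfl
    have hpow : ∀ (j : ℕ) (v : K), ((g : K →ₗ[F] K) ^ j) v = (y : K) ^ j * v := by
      intro j
      induction j with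
      | zero => intro v; simp
      | succ j ih =>
        intro v
        rw [pow_succ, Module.End.mul_apply, ih]
        show (y : K) ^ j * g v = _
        rw [hgap, pow_succ, mul_assoc]
    have hdet : LinearMap.det (g : K →ₗ[F] K) = 1 := by
      show Algebra.norm F (y : K) = 1
      refine (algebraMap F K).injective ?_
      rw [FiniteField.algebraMap_norm_eq_pow_sum, hfr, hF, map_one]
      have h1 : tA q n ∣ ∑ i ∈ range n, (q ^ 2) ^ i := by
        rw [← Int.natCast_dvd_natCast, sum_sq_cast]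
        obtain ⟨t, ht⟩ := geom_q2 q n ho
        rw [ht, tA, Int.natAbs_dvd]
        exact Dvd.intro _ rfl
      rw [← Units.val_pow_eq_pow_val, orderOf_dvd_iff_pow_eq_one.1 (hyo ▸ h1), Units.val_one]
    have hB := fieldB_isFlip s0 (1 : F) τ hτc htr hττ 1 (by simp) one_ne_zero
    have hgp : Preserves (fieldB s0 τ hτc (1 : K)) g := fun u v => by
      rw [hgap, hgap]
      exact fieldB_mul s0 τ hτc 1 _ hyy u v
    obtain ⟨x, hx⟩ := exists_psu hB hn hfr g hgp hdet
    refine ⟨x, Nat.dvd_antisymm ?_ ?_⟩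
    · refine orderOf_dvd_of_pow_eq_one ((hx _).2 ?_)
      have h1 : ((y : K) ^ tM q n) ^ (q + 1) = 1 := by
        rw [← pow_mul, ← Units.val_pow_eq_pow_val, orderOf_dvd_iff_pow_eq_one.1
          (hyo ▸ tA_dvd_tM_mul q n), Units.val_one]
      obtain ⟨c, hc, -⟩ := exists_of_pow_q1 hF (by omega) (algebraMap F K) h1
      exact ⟨c, fun v => by rw [hpow, ← hc, Algebra.smul_def]⟩
    · obtain ⟨c, hc⟩ := (hx _).1 (pow_orderOf_eq_one x)
      have h1 := hc 1
      rw [hpow, mul_one, Algebra.smul_def, mul_one] at h1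
      have hc1 : c ^ (q + 1) = 1 := by
        refine (algebraMap F K).injective ?_
        rw [pow_succ, ← hodd, map_mul, map_pow, ← h1, ← hτ, map_pow, ← mul_pow, hyy, one_pow,
          map_one]
      refine tM_dvd_of_dvd (hyo ▸ orderOf_dvd_of_pow_eq_one (Units.ext ?_))
      rw [Units.val_pow_eq_pow_val, Units.val_one, pow_mul, h1, ← map_pow, hc1, map_one]

end Torus

end Cfsg.Agent.FormTorus
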