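import Cfsg.Agent.Lib.FormTorus.Dual

/-!
Endomorphisms annihilated by an irreducible polynomial, the conjugation of the corresponding
field, and pairs of totally isotropic subspaces.
-/

set_option autoImplicit false
set_option linter.unusedSectionVars false

namespace Cfsg.Agent.FormTorus

open Polynomial FormsLib

variable {F : Type*} [Field F]

section Endo

variable {V : Type*} [AddCommGroup V] [Module F V] [FiniteDimensional F V]

/-- Dimension and determinant of an endomorphism with irreducible minimal polynomial. -/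
theorem exists_det_norm {f : F[X]} [Fact (Irreducible f)] {T : Module.End F V}
    (h : aeval T f = 0) :
    ∃ k, Module.finrank F V = f.natDegree * k ∧
      LinearMap.det T = Algebra.norm F (AdjoinRoot.root f) ^ k := by
  have hf0 : f ≠ 0 := (Fact.out : Irreducible f).ne_zero
  let φ : AdjoinRoot f →ₐ[F] Module.End F V :=
    Ideal.Quotient.liftₐ (Ideal.span {f}) (aeval T) fun a ha => by
      obtain ⟨b, rfl⟩ := Ideal.mem_span_singleton.1 ha
      rw [map_mul, h, zero_mul]
  letI : Module (AdjoinRoot f) V := Module.compHom V φ.toRingHom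
  haveI : IsScalarTower F (AdjoinRoot f) V := ⟨fun a b v => by
    show φ (a • b) v = a • φ b v
    rw [map_smul, LinearMap.smul_apply]⟩
  haveI : Module.Finite F (AdjoinRoot f) := (AdjoinRoot.powerBasis hf0).finite
  haveI : FiniteDimensional (AdjoinRoot f) V := Module.Finite.of_restrictScalars_finite F _ V
  refine ⟨Module.finrank (AdjoinRoot f) V, ?_, ?_⟩
  · rw [← Module.finrank_mul_finrank F (AdjoinRoot f) V, (AdjoinRoot.powerBasis hf0).finrank,
      AdjoinRoot.powerBasis_dim hf0]
  · have hT : T = (AdjoinRoot.root f • LinearMap.id :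
        V →ₗ[AdjoinRoot f] V).restrictScalars F := by
      refine LinearMap.ext fun v => ?_
      show T v = φ (AdjoinRoot.root f) v
      exact congrArg (fun g : Module.End F V => g v) (aeval_X T).symm
    rw [hT, LinearMap.det_restrictScalars, LinearMap.det_smul, LinearMap.det_id, mul_one, map_pow]

/-- Powers of the root that lie in `F` give scalar powers of the endomorphism. -/
theorem apply_pow_eq_smul {f : F[X]} {T : Module.End F V} {j : ℕ} {c : F}
    (hj : AdjoinRoot.root f ^ j = AdjoinRoot.of f c) {v : V} (h : aeval T f v = 0) :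
    (T ^ j) v = c • v := by
  have h1 : AdjoinRoot.mk f (X ^ j - C c) = 0 := by
    rw [map_sub, map_pow, AdjoinRoot.mk_X, AdjoinRoot.mk_C, hj, sub_self]
  obtain ⟨b, hb⟩ := AdjoinRoot.mk_eq_zero.1 h1
  have := congrArg (fun p => aeval T p v) hb
  rw [mul_comm f b] at this
  simp only [map_sub, map_mul, aeval_X_pow, aeval_C, Module.End.mul_apply, h, map_zero,
    LinearMap.sub_apply] at this
  rw [sub_eq_zero] at this
  rw [this, Algebra.algebraMap_eq_smul_one, LinearMap.smul_apply, Module.End.one_apply]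

theorem root_ne_zero {f : F[X]} [Fact (Irreducible f)] (h0 : f.coeff 0 ≠ 0) :
    AdjoinRoot.root f ≠ 0 := by
  intro h
  have h1 := AdjoinRoot.eval₂_root f
  rw [h, eval₂_at_zero] at h1
  exact h0 ((AdjoinRoot.of f).injective (by rw [h1, map_zero]))

end Endo

/-- A non-trivial involutive endomorphism of a finite field is `y ↦ y ^ m` with `m ^ 2` elements. -/
theorem exists_invol_pow {K : Type*} [Field K] [Finite K] (τ : K →+* K) (hτ : ∀ y, τ (τ y) = y)
    (hne : ∃ y, τ y ≠ y) : ∃ m, Nat.card K = m ^ 2 ∧ ∀ y, τ y = y ^ m := by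
  haveI := Fintype.ofFinite K
  obtain ⟨p, hchar⟩ := CharP.exists K
  obtain ⟨⟨N, hN0⟩, hp, hcard⟩ := FiniteField.card K p
  replace hcard : Fintype.card K = p ^ N := hcard
  haveI := Fact.mk hp
  letI : Algebra (ZMod p) K := ZMod.algebra K p
  obtain ⟨i, hi⟩ := FiniteField.exists_forall_apply_eq_pow (ZMod p) p K
    (AlgEquiv.ofBijective ({ τ with commutes' := fun r => (RingHom.congr_fun
      (Subsingleton.elim (τ.comp (algebraMap (ZMod p) K)) (algebraMap (ZMod p) K)) r) } : K →ₐ[ZMod p] K)
      (Finite.injective_iff_bijective.1 τ.injective))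
  rw [Nat.card_zmod] at hi
  have hred : ∀ y, τ y = y ^ p ^ (i % N) := fun y => by
    have h : ∀ k, y ^ p ^ (N * k) = y := by
      intro k
      rw [pow_mul, ← hcard]
      exact FiniteField.pow_card_pow k y
    have : τ y = y ^ p ^ i := hi y
    rw [this]
    conv_lhs => rw [← Nat.mod_add_div i N, pow_add, pow_mul', h]
  set j := i % N with hj
  have hjN : j < N := Nat.mod_lt _ hN0
  have hj0 : j ≠ 0 := fun h => by
    obtain ⟨y, hy⟩ := hne
    exact hy (by rw [hred, h, pow_zero, pow_one])
  obtain ⟨g, hg⟩ := IsCyclic.exists_generator (α := Kˣ)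
  have hord : orderOf g = p ^ N - 1 := by
    rw [orderOf_eq_card_of_forall_mem_zpowers hg, Nat.card_units, Nat.card_eq_fintype_card, hcard]
  have h1 : (g : K) ^ p ^ (2 * j) = g := by
    rw [two_mul, pow_add, pow_mul, ← hred, ← hred, hτ]
  have hpos : 1 ≤ p ^ (2 * j) := Nat.one_le_pow _ _ hp.pos
  have h2 : g ^ (p ^ (2 * j) - 1) = 1 := by
    refine Units.ext (mul_left_cancel₀ (Units.ne_zero g) ?_)
    rw [Units.val_pow_eq_pow_val, ← pow_succ', Nat.sub_add_cancel hpos, h1, Units.val_one, mul_one]
  have h3 := orderOf_dvd_of_pow_eq_one h2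
  rw [hord] at h3
  have h4 : N ∣ 2 * j := by
    have h5 : (p ^ N - 1).gcd (p ^ (2 * j) - 1) = p ^ N.gcd (2 * j) - 1 :=
      Nat.pow_sub_one_gcd_pow_sub_one p N (2 * j)
    rw [Nat.gcd_eq_left h3] at h5
    have h6 : p ^ N = p ^ N.gcd (2 * j) := by
      have := Nat.one_le_pow N p hp.pos
      have := Nat.one_le_pow (N.gcd (2 * j)) p hp.pos
      omega
    exact (Nat.pow_right_injective hp.two_le h6).symm ▸ Nat.gcd_dvd_right N (2 * j)
  obtain ⟨c, hc⟩ := h4
  have hc1 : c = 1 := by
    rcases c with - | - | c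
    · omega
    · rfl
    · exfalso
      nlinarith [hc, hjN]
  rw [hc1, mul_one] at hc
  refine ⟨p ^ j, ?_, hred⟩
  rw [Nat.card_eq_fintype_card, hcard, ← hc, ← pow_mul, mul_comm]

section Conj

variable {σ : F →+* F}

/-- The conjugation of the field of a self-dual irreducible polynomial. -/
theorem exists_conj {f : F[X]} [Fact (Irreducible f)] (hσ : ∀ a, σ (σ a) = a) (h0 : f.coeff 0 ≠ 0)
    (hd : dualPoly σ f = f) :
    ∃ τ : AdjoinRoot f →+* AdjoinRoot f, (∀ c, τ (AdjoinRoot.of f c) = AdjoinRoot.of f (σ c)) ∧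
      τ (AdjoinRoot.root f) = (AdjoinRoot.root f)⁻¹ ∧ ∀ y, τ (τ y) = y := by
  have hx := root_ne_zero h0
  haveI : Invertible (AdjoinRoot.root f)⁻¹ := invertibleOfNonzero (inv_ne_zero hx)
  have h1 : eval₂ (AdjoinRoot.of f) (AdjoinRoot.root f)⁻¹ (f.map σ) = 0 := by
    rw [← eval₂_reverse_eq_zero_iff, invOf_eq_inv, inv_inv]
    have key : ∀ g : F[X], g = f →
        eval₂ (AdjoinRoot.of f) (AdjoinRoot.root f) g = 0 :=
      fun g hg => by rw [hg]; exact AdjoinRoot.eval₂_root f
    have := key _ hd
    rw [dualPoly, eval₂_mul, eval₂_C, mul_eq_zero] at this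
    exact this.resolve_right ((_root_.map_ne_zero _).2 (inv_ne_zero ((_root_.map_ne_zero σ).2 h0)))
  rw [eval₂_map] at h1
  refine ⟨AdjoinRoot.lift ((AdjoinRoot.of f).comp σ) _ h1, fun c => AdjoinRoot.lift_of h1,
    AdjoinRoot.lift_root h1, fun y => ?_⟩
  induction y using AdjoinRoot.induction_on with
  | ih p =>
    induction p using Polynomial.induction_on with
    | C a =>
      simp only [AdjoinRoot.mk_C, AdjoinRoot.lift_of, RingHom.comp_apply, hσ]
    | add a b ha hb => simp only [map_add, ha, hb]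
    | monomial n a _ =>
      simp only [map_mul, map_pow, AdjoinRoot.mk_C, AdjoinRoot.mk_X, AdjoinRoot.lift_of,
        AdjoinRoot.lift_root, RingHom.comp_apply, hσ, map_inv₀, inv_inv]

theorem natCard_adjoinRoot [Finite F] {f : F[X]} (hf : f ≠ 0) :
    Finite (AdjoinRoot f) ∧ Nat.card (AdjoinRoot f) = Nat.card F ^ f.natDegree := by
  haveI := (AdjoinRoot.powerBasis hf).finite
  refine ⟨Module.finite_of_finite F, ?_⟩
  rw [Module.natCard_eq_pow_finrank (K := F), (AdjoinRoot.powerBasis hf).finrank,
    AdjoinRoot.powerBasis_dim hf]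

/-- Unitary case: the degree is odd and the root lies in the norm-one torus. -/
theorem self_dual_unitary [Finite F] {q : ℕ} (hF : Nat.card F = q ^ 2)
    (hσq : ∀ a, σ a = a ^ q) (hσ : ∀ a, σ (σ a) = a) (hσne : ∃ a, σ a ≠ a)
    {f : F[X]} [Fact (Irreducible f)] (h0 : f.coeff 0 ≠ 0) (hd : dualPoly σ f = f) :
    Odd f.natDegree ∧ AdjoinRoot.root f ^ (q ^ f.natDegree + 1) = 1 := by
  obtain ⟨τ, hτc, hτx, hττ⟩ := exists_conj hσ h0 hd
  obtain ⟨hfin, hcard⟩ := natCard_adjoinRoot (F := F) (Fact.out : Irreducible f).ne_zero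
  obtain ⟨a, ha⟩ := hσne
  obtain ⟨m, hm, hpow⟩ := exists_invol_pow τ hττ ⟨AdjoinRoot.of f a, fun h => ha (by
    rw [hτc] at h; exact (AdjoinRoot.of f).injective h)⟩
  have hmq : m = q ^ f.natDegree := by
    rw [hm, hF, ← pow_mul, mul_comm, pow_mul] at hcard
    exact (Nat.pow_left_injective two_ne_zero hcard)
  constructor
  · rw [← Nat.not_even_iff_odd]
    rintro ⟨e, he⟩
    refine ha ?_
    have h := hτc a
    rw [hpow, ← map_pow] at h
    rw [← (AdjoinRoot.of f).injective h, hmq, he, ← two_mul, pow_mul, ← hF]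
    haveI := Fintype.ofFinite F
    rw [Nat.card_eq_fintype_card]
    exact FiniteField.pow_card_pow e a
  · rw [pow_succ, ← hmq, ← hpow, hτx, inv_mul_cancel₀ (root_ne_zero h0)]

/-- Symplectic or orthogonal case. -/
theorem self_dual_bilin [Finite F] {f : F[X]} [Fact (Irreducible f)] (h0 : f.coeff 0 ≠ 0)
    (hd : dualPoly (RingHom.id F) f = f) :
    AdjoinRoot.root f ^ 2 = 1 ∨
      ∃ e, f.natDegree = 2 * e ∧ AdjoinRoot.root f ^ (Nat.card F ^ e + 1) = 1 := by
  obtain ⟨τ, hτc, hτx, hττ⟩ := exists_conj (σ := RingHom.id F) (fun _ => rfl) h0 hd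
  obtain ⟨hfin, hcard⟩ := natCard_adjoinRoot (F := F) (Fact.out : Irreducible f).ne_zero
  by_cases hne : ∃ y, τ y ≠ y
  · right
    obtain ⟨m, hm, hpow⟩ := exists_invol_pow τ hττ hne
    haveI := Fintype.ofFinite F
    obtain ⟨p, hchar⟩ := CharP.exists F
    obtain ⟨⟨a, ha0⟩, hp, hq⟩ := FiniteField.card F p
    replace hq : Nat.card F = p ^ a := by rw [Nat.card_eq_fintype_card]; exact hq
    rw [hm, hq, ← pow_mul] at hcard
    obtain ⟨b, -, hb⟩ := (Nat.dvd_prime_pow hp).1 (hcard ▸ dvd_pow_self m two_ne_zero)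
    rw [hb, ← pow_mul] at hcard
    have hab : b * 2 = a * f.natDegree := Nat.pow_right_injective hp.two_le hcard
    by_cases hev : Even f.natDegree
    · obtain ⟨e, he⟩ := hev
      refine ⟨e, by omega, ?_⟩
      have : b = a * e := by rw [he, mul_add] at hab; omega
      rw [hq, ← pow_mul, ← this, ← hb, pow_succ, ← hpow, hτx, inv_mul_cancel₀ (root_ne_zero h0)]
    · exfalso
      rw [Nat.not_even_iff_odd] at hev
      -- the restriction of `τ` to `F` is trivial, so its degree is even
      obtain ⟨g, hg⟩ := IsCyclic.exists_generator (α := Fˣ)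
      have hgo : orderOf g = p ^ a - 1 := by
        rw [orderOf_eq_card_of_forall_mem_zpowers hg, Nat.card_units, hq]
      have h1 : (g : F) ^ m = g := by
        have h := hτc (g : F)
        rw [hpow, ← map_pow] at h
        exact (AdjoinRoot.of f).injective h
      have hmpos : 1 ≤ m := hb ▸ Nat.one_le_pow _ _ hp.pos
      have h2 : g ^ (m - 1) = 1 := by
        refine Units.ext (mul_left_cancel₀ (Units.ne_zero g) ?_)
        rw [Units.val_pow_eq_pow_val, ← pow_succ', Nat.sub_add_cancel hmpos, h1, Units.val_one,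
          mul_one]
      have h3 := orderOf_dvd_of_pow_eq_one h2
      rw [hgo, hb] at h3
      have h5 := Nat.pow_sub_one_gcd_pow_sub_one p a b
      rw [Nat.gcd_eq_left h3] at h5
      have h6 : p ^ a = p ^ a.gcd b := by
        have := Nat.one_le_pow a p hp.pos
        have := Nat.one_le_pow (a.gcd b) p hp.pos
        omega
      have h7 : a ∣ b := (Nat.pow_right_injective hp.two_le h6).symm ▸ Nat.gcd_dvd_right a b
      obtain ⟨t, rfl⟩ := h7
      obtain ⟨u, hu⟩ := hev
      have : t * 2 = f.natDegree := Nat.eq_of_mul_eq_mul_left ha0 (by rw [← hab]; ring)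
      omega
  · left
    push Not at hne
    have := hne (AdjoinRoot.root f)
    rw [hτx] at this
    rw [pow_two]
    nth_rewrite 1 [← this]
    exact inv_mul_cancel₀ (root_ne_zero h0)

end Conj

section Pair

variable [Finite F] {V : Type*} [AddCommGroup V] [Module F V] [FiniteDimensional F V]
  {σ : F →+* F} {ε : F} {B : V →ₛₗ[σ] V →ₗ[F] F} {W₁ W₂ : Submodule F V}

theorem eq_zero_of_pair (hB : IsTraceForm σ ε B) (hc : IsCompl W₁ W₂)
    (h1 : ∀ u ∈ W₁, ∀ v ∈ W₁, B u v = 0) {u : V} (hu : u ∈ W₁) (h : ∀ v ∈ W₂, B u v = 0) :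
    u = 0 := by
  refine hB.nondeg u fun w => ?_
  obtain ⟨a, ha, b, hb, rfl⟩ := Submodule.mem_sup.1 (hc.sup_eq_top ▸ Submodule.mem_top : w ∈ W₁ ⊔ W₂)
  rw [map_add, h1 u hu a ha, h b hb, add_zero]

theorem finrank_le_of_pair (hB : IsTraceForm σ ε B) (hc : IsCompl W₁ W₂)
    (h1 : ∀ u ∈ W₁, ∀ v ∈ W₁, B u v = 0) : Module.finrank F W₁ ≤ Module.finrank F W₂ := by
  haveI : Finite W₂ := Module.finite_of_finite F
  haveI : Finite (Module.Dual F W₂) := Module.finite_of_finite F
  have hinj : Function.Injective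
      (fun u : W₁ => ((B (u : V)).comp W₂.subtype : Module.Dual F W₂)) := by
    intro u u' h
    refine Subtype.ext (sub_eq_zero.1 (eq_zero_of_pair hB hc h1 (u - u' : W₁).2 fun v hv => ?_))
    have := LinearMap.congr_fun h ⟨v, hv⟩
    simp only [LinearMap.comp_apply, Submodule.subtype_apply] at this
    rw [map_sub, LinearMap.sub_apply, this, sub_self]
  have h := Nat.card_le_card_of_injective _ hinj
  rw [Module.natCard_eq_pow_finrank (K := F) (V := W₁),
    Module.natCard_eq_pow_finrank (K := F) (V := Module.Dual F W₂),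
    Subspace.dual_finrank_eq] at h
  exact (Nat.pow_le_pow_iff_right (Finite.one_lt_card (α := F))).1 h

theorem finrank_eq_of_pair (hB : IsTraceForm σ ε B) (hc : IsCompl W₁ W₂)
    (h1 : ∀ u ∈ W₁, ∀ v ∈ W₁, B u v = 0) (h2 : ∀ u ∈ W₂, ∀ v ∈ W₂, B u v = 0) :
    Module.finrank F W₁ = Module.finrank F W₂ :=
  (finrank_le_of_pair hB hc h1).antisymm (finrank_le_of_pair hB hc.symm h2)

/-- Determinants on a dual pair. -/
theorem det_pair (hB : IsTraceForm σ ε B) (hc : IsCompl W₁ W₂)
    (h1 : ∀ u ∈ W₁, ∀ v ∈ W₁, B u v = 0) (h2 : ∀ u ∈ W₂, ∀ v ∈ W₂, B u v = 0)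
    (g : Module.End F V) (hg : ∀ u v, B (g u) (g v) = B u v)
    (hg1 : ∀ v ∈ W₁, g v ∈ W₁) (hg2 : ∀ v ∈ W₂, g v ∈ W₂) :
    LinearMap.det g = LinearMap.det (g.restrict hg1) * LinearMap.det (g.restrict hg2) ∧
      σ (LinearMap.det (g.restrict hg1)) * LinearMap.det (g.restrict hg2) = 1 := by
  constructor
  · have he : g = (Submodule.prodEquivOfIsCompl W₁ W₂ hc).conj
        (LinearMap.prodMap (g.restrict hg1) (g.restrict hg2)) := by
      refine LinearMap.ext fun v => ?_
      obtain ⟨⟨a, b⟩, rfl⟩ := (Submodule.prodEquivOfIsCompl W₁ W₂ hc).surjective v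
      simp [LinearEquiv.conj_apply]
    conv_lhs => rw [he, LinearEquiv.conj_apply, LinearMap.comp_assoc, LinearMap.det_conj,
      LinearMap.det_prodMap]
  · classical
    have hr := finrank_eq_of_pair hB hc h1 h2
    let b := Module.finBasisOfFinrankEq F W₁ hr
    let c := Module.finBasis F W₂
    set A := LinearMap.toMatrix b b (g.restrict hg1) with hA
    set C' := LinearMap.toMatrix c c (g.restrict hg2) with hC
    set P : Matrix _ _ F := Matrix.of fun i j => B (b i : V) (c j : V) with hP
    have hgb : ∀ j, g (b j : V) = ∑ i, A i j • (b i : V) := fun j => by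
      have := b.sum_repr (g.restrict hg1 (b j))
      have h' := congrArg Subtype.val this
      rw [Submodule.coe_sum] at h'
      simp only [Submodule.coe_smul, LinearMap.restrict_coe_apply] at h'
      rw [← h']
      simp [hA, LinearMap.toMatrix_apply]
    have hgc : ∀ j, g (c j : V) = ∑ i, C' i j • (c i : V) := fun j => by
      have := c.sum_repr (g.restrict hg2 (c j))
      have h' := congrArg Subtype.val this
      rw [Submodule.coe_sum] at h'
      simp only [Submodule.coe_smul, LinearMap.restrict_coe_apply] at h'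
      rw [← h']
      simp [hC, LinearMap.toMatrix_apply]
    have key : (A.map σ).transpose * P * C' = P := by
      ext i j
      have h := hg (b i : V) (c j : V)
      rw [hgb i, hgc j] at h
      simp only [map_sum, map_smulₛₗ, LinearMap.coe_sum, Finset.sum_apply, LinearMap.smul_apply,
        RingHom.id_apply, smul_eq_mul] at h
      show _ = B (b i : V) (c j : V)
      rw [← h]
      simp only [Matrix.mul_apply, Matrix.transpose_apply, Matrix.map_apply, hP, Matrix.of_apply,
        Finset.sum_mul, Finset.mul_sum]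
      refine Finset.sum_congr rfl fun k _ => Finset.sum_congr rfl fun l _ => ?_
      ring
    have hdP : P.det ≠ 0 := by
      intro h0
      obtain ⟨v, hv0, hv⟩ := Matrix.exists_mulVec_eq_zero_iff.2 h0
      refine hv0 ?_
      have hb0 : ∀ i, B (b i : V) ((∑ j, v j • c j : W₂) : V) = 0 := fun i => by
        have := congrFun hv i
        simp only [Matrix.mulVec, dotProduct, hP, Matrix.of_apply, Pi.zero_apply] at this
        simp [Submodule.coe_sum, Finset.sum_congr, mul_comm] at this ⊢
        exact this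
      have hall : ∀ u ∈ W₁, B u ((∑ j, v j • c j : W₂) : V) = 0 := fun u hu => by
        have := congrArg Subtype.val (b.sum_repr ⟨u, hu⟩)
        rw [Submodule.coe_sum] at this
        simp only [Submodule.coe_smul] at this
        rw [← this, map_sum, LinearMap.sum_apply]
        refine Finset.sum_eq_zero fun i _ => ?_
        rw [map_smulₛₗ, LinearMap.smul_apply, hb0 i, smul_zero]
      have hz : ((∑ j, v j • c j : W₂) : V) = 0 :=
        eq_zero_of_pair hB hc.symm h2 (Subtype.prop _) fun u hu => by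
          rw [hB.flip u, hall u hu, map_zero, mul_zero]
      exact funext fun j => Fintype.linearIndependent_iff.1 c.linearIndependent v
        (Subtype.ext hz) j
    have := congrArg Matrix.det key
    rw [Matrix.det_mul, Matrix.det_mul, Matrix.det_transpose, ← RingHom.mapMatrix_apply,
      ← RingHom.map_det, hA, hC, LinearMap.det_toMatrix, LinearMap.det_toMatrix] at this
    refine mul_right_cancel₀ hdP ?_
    rw [one_mul]
    conv_rhs => rw [← this]
    ring

end Pair

end Cfsg.Agent.FormTorus
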