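import Cfsg.Agent.Lib.FormTorus.Irred

/-!
Order bookkeeping for isometries: parts of an element, unipotent bounds, lcm of orders in products.
-/

set_option autoImplicit false
set_option linter.unusedSectionVars false

namespace Cfsg.Agent.FormTorus

open Polynomial FormsLib

variable {F : Type*} [Field F] {V : Type*} [AddCommGroup V] [Module F V]

theorem en_pow (g : V ≃ₗ[F] V) (j : ℕ) : en (g ^ j) = en g ^ j := by
  induction j with
  | zero => rfl
  | succ j ih => rw [pow_succ, pow_succ, ← ih]; rfl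

theorem preserves_pow {σ : F →+* F} {B : V →ₛₗ[σ] V →ₗ[F] F} {g : V ≃ₗ[F] V}
    (h : Preserves B g) (j : ℕ) : Preserves B (g ^ j) := by
  induction j with
  | zero => exact preserves_one
  | succ j ih => rw [pow_succ]; exact ih.mul h

theorem finite_equiv [Finite F] [FiniteDimensional F V] : Finite (V ≃ₗ[F] V) :=
  haveI : Finite V := Module.finite_of_finite F
  Finite.of_injective (fun g : V ≃ₗ[F] V => (g : V → V)) DFunLike.coe_injective

/-- The semisimple part and the order of the unipotent part. -/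
theorem exists_parts [Finite F] [FiniteDimensional F V] (p : ℕ) [hp : Fact p.Prime] [CharP F p]
    (g : V ≃ₗ[F] V) :
    ∃ b m' : ℕ, orderOf g = p ^ b * m' ∧ Nat.Coprime (p ^ b) m' ∧ (m' : F) ≠ 0 ∧
      (minpoly F (en (g ^ p ^ b))).Separable := by
  haveI := finite_equiv (F := F) (V := V)
  have hN : orderOf g ≠ 0 := (orderOf_pos g).ne'
  obtain ⟨b, m', hm', hN'⟩ := Nat.exists_eq_pow_mul_and_not_dvd hN p hp.out.ne_one
  have hcast : (m' : F) ≠ 0 := fun h => hm' ((CharP.cast_eq_zero_iff F p m').1 h)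
  refine ⟨b, m', hN', Nat.Coprime.pow_left _ ((hp.out.coprime_iff_not_dvd).2 hm'), hcast,
    separable_minpoly hcast ?_⟩
  rw [← en_pow, ← pow_mul, ← hN', pow_orderOf_eq_one]
  rfl

/-- A nilpotent endomorphism bound. -/
theorem pow_finrank_eq_zero [FiniteDimensional F V] {T : Module.End F V} {k : ℕ} (h : T ^ k = 0) :
    T ^ Module.finrank F V = 0 := by
  obtain ⟨i, hi, hass⟩ := (dvd_prime_pow Polynomial.prime_X k).1
    (minpoly.dvd F T (show aeval T (X ^ k : F[X]) = 0 by rw [aeval_X_pow, h]))
  have hint := Algebra.IsIntegral.isIntegral (R := F) T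
  have heq : minpoly F T = X ^ i :=
    eq_of_monic_of_associated (minpoly.monic hint) (monic_X_pow i) hass
  have hdeg : i ≤ Module.finrank F V := by
    have h1 := natDegree_le_of_dvd (minpoly.dvd F T T.aeval_self_charpoly)
      T.charpoly_monic.ne_zero
    rwa [heq, natDegree_X_pow, LinearMap.charpoly_natDegree] at h1
  have h0 := minpoly.aeval F T
  rw [heq, aeval_X_pow] at h0
  rw [← Nat.add_sub_cancel' hdeg, pow_add, h0, zero_mul]

/-- A `p`-power order element has order at most `p ^ clog p (dim)`. -/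
theorem pow_clog_eq_one [FiniteDimensional F V] [Nontrivial V] (p : ℕ) [hp : Fact p.Prime] [CharP F p]
    {T : Module.End F V} {b : ℕ} (h : T ^ p ^ b = 1) :
    T ^ p ^ Nat.clog p (Module.finrank F V) = 1 := by
  haveI : CharP (Module.End F V) p :=
    charP_of_injective_algebraMap (algebraMap F (Module.End F V)).injective p
  have h1 : (T - 1) ^ p ^ b = 0 := by
    rw [sub_pow_char_pow_of_commute (p := p) (h := Commute.one_right T), one_pow, h, sub_self]
  have h2 := pow_eq_zero_of_le (Nat.le_pow_clog hp.out.one_lt (Module.finrank F V))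
    (pow_finrank_eq_zero h1)
  rw [sub_pow_char_pow_of_commute (p := p) (h := Commute.one_right T), one_pow, sub_eq_zero] at h2
  exact h2

/-- The determinant of a unipotent endomorphism is one. -/
theorem det_eq_one_of_unipotent (p : ℕ) [hp : Fact p.Prime] [CharP F p]
    {T : Module.End F V} {b : ℕ} (h : T ^ p ^ b = 1) : LinearMap.det T = 1 := by
  have h1 := congrArg LinearMap.det h
  rw [map_pow, map_one] at h1
  have h2 : (LinearMap.det T - 1) ^ p ^ b = 0 := by
    rw [sub_pow_char_pow, one_pow, h1, sub_self]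
  exact sub_eq_zero.1 (pow_eq_zero_iff (pow_ne_zero _ hp.out.ne_zero) |>.1 h2)

/-- An element of a given order from a generator. -/
theorem exists_orderOf_eq {G : Type*} [Group G] [Finite G] (x : G) {d : ℕ} (h : d ∣ orderOf x) :
    ∃ y : G, orderOf y = d :=
  ⟨x ^ (orderOf x / d), orderOf_pow_orderOf_div (orderOf_pos x).ne' h⟩

/-- Absorbing a factor of exponent a prime `r`. -/
theorem range_orderOf_absorb {A E : Type*} [Group A] [Group E] {r : ℕ} (hr : r.Prime)
    (hE : ∀ e : E, e ^ r = 1)
    (h : ∀ a : A, ¬ r ∣ orderOf a → ∃ a' : A, orderOf a' = r * orderOf a) (a : A) (e : E) :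
    ∃ a' : A, orderOf a' = Nat.lcm (orderOf a) (orderOf e) := by
  rcases (Nat.dvd_prime hr).1 (orderOf_dvd_of_pow_eq_one (hE e)) with he | he
  · exact ⟨a, by rw [he, Nat.lcm_one_right]⟩
  · by_cases hd : r ∣ orderOf a
    · exact ⟨a, by rw [he, Nat.lcm_comm, Nat.lcm_eq_right hd]⟩
    · obtain ⟨a', ha'⟩ := h a hd
      refine ⟨a', ?_⟩
      rw [ha', he, Nat.Coprime.lcm_eq_mul ((hr.coprime_iff_not_dvd.2 hd).symm), mul_comm]

end Cfsg.Agent.FormTorus
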