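import Cfsg.Agent.Lib.FormTorus.SymplecticOrders
import Cfsg.Agent.Lib.GLOrders.SympOrders

/-!
A bound for all element orders of symplectic isometry groups, in every characteristic.
-/

set_option autoImplicit false
set_option linter.unusedSectionVars false

namespace Cfsg.Agent.FormTorus

open Polynomial FormsLib

/-- The torus order attached to a pair (exponent, sign). -/
def torX (q : ℕ) (x : ℕ × Bool) : ℕ := if x.2 then q ^ x.1 + 1 else q ^ x.1 - 1

/-- Least common multiple of torus orders. -/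
def torL (q : ℕ) : List (ℕ × Bool) → ℕ
  | [] => 1
  | x :: L => Nat.lcm (torX q x) (torL q L)

/-- Sum of the exponents. -/
def torE : List (ℕ × Bool) → ℕ
  | [] => 0
  | x :: L => x.1 + torE L

theorem torL_append (q : ℕ) : ∀ L L' : List (ℕ × Bool), torL q (L ++ L') = Nat.lcm (torL q L) (torL q L')
  | [], L' => (Nat.lcm_one_left _).symm
  | x :: L, L' => by rw [List.cons_append, torL, torL, torL_append q L L', Nat.lcm_assoc]

theorem torE_append : ∀ L L' : List (ℕ × Bool), torE (L ++ L') = torE L + torE L'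
  | [], L' => (Nat.zero_add _).symm
  | x :: L, L' => by rw [List.cons_append, torE, torE, torE_append L L', add_assoc]

theorem tor_bound_aux {q : ℕ} (hq : 2 ≤ q) : ∀ L : List (ℕ × Bool), (∀ x ∈ L, 1 ≤ x.1) →
    ∃ V : Finset ℕ, (∀ v ∈ V, q ^ 2 ^ v + 1 ∣ torL q L) ∧
      torL q L * ∏ v ∈ V, q ^ 2 ^ v ≤ q ^ torE L * ∏ v ∈ V, (q ^ 2 ^ v + 1) := by
  intro L hL
  induction L with
  | nil => exact ⟨∅, by simp, by simp [torL, torE]⟩
  | cons x L ih =>
    obtain ⟨V, hV, hb⟩ := ih fun y hy => hL y (List.mem_cons_of_mem _ hy)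
    obtain ⟨e, sgn⟩ := x
    have he : 1 ≤ e := hL _ (List.mem_cons_self ..)
    have hlcm : Nat.lcm (torX q (e, sgn)) (torL q L) ≤ torX q (e, sgn) * torL q L := by
      rcases Nat.eq_zero_or_pos (torX q (e, sgn) * torL q L) with h | h
      · rcases Nat.mul_eq_zero.1 h with h' | h' <;> simp [h']
      · exact Nat.le_of_dvd h (Nat.lcm_dvd_mul _ _)
    cases sgn with
    | false =>
      refine ⟨V, fun v hv => (hV v hv).trans (Nat.dvd_lcm_right _ _), ?_⟩
      calc torL q ((e, false) :: L) * ∏ v ∈ V, q ^ 2 ^ v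
          ≤ (torX q (e, false) * torL q L) * ∏ v ∈ V, q ^ 2 ^ v := Nat.mul_le_mul_right _ hlcm
        _ ≤ q ^ e * (torL q L * ∏ v ∈ V, q ^ 2 ^ v) := by
            rw [mul_assoc]; exact Nat.mul_le_mul_right _ (by simp [torX])
        _ ≤ q ^ e * (q ^ torE L * ∏ v ∈ V, (q ^ 2 ^ v + 1)) := Nat.mul_le_mul_left _ hb
        _ = _ := by rw [← mul_assoc, ← pow_add]; rfl
    | true =>
      obtain ⟨v, d, hd, hev⟩ : ∃ v d, Odd d ∧ e = 2 ^ v * d := by
        obtain ⟨v, d, hd, h⟩ := Nat.exists_eq_two_pow_mul_odd (by omega : e ≠ 0)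
        exact ⟨v, d, hd, h⟩
      have hdvd : q ^ 2 ^ v + 1 ∣ q ^ e + 1 := by
        have := hd.nat_add_dvd_pow_add_pow (q ^ 2 ^ v) 1
        rwa [one_pow, ← pow_mul, ← hev] at this
      by_cases hv : v ∈ V
      · refine ⟨V, fun w hw => (hV w hw).trans (Nat.dvd_lcm_right _ _), ?_⟩
        have hle : torL q ((e, true) :: L) * (q ^ 2 ^ v + 1) ≤ (q ^ e + 1) * torL q L := by
          show Nat.lcm (q ^ e + 1) (torL q L) * (q ^ 2 ^ v + 1) ≤ _
          rw [← Nat.gcd_mul_lcm (q ^ e + 1) (torL q L), mul_comm (Nat.gcd _ _)]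
          exact Nat.mul_le_mul_left _ (Nat.le_of_dvd (Nat.gcd_pos_of_pos_left _ (Nat.succ_pos _))
            (Nat.dvd_gcd hdvd (hV v hv)))
        have h1 : q ^ e + 1 ≤ q ^ e * (q ^ 2 ^ v + 1) := by
          have := Nat.one_le_pow e q (by omega)
          have := Nat.one_le_pow (2 ^ v) q (by omega)
          nlinarith
        refine Nat.le_of_mul_le_mul_right (c := q ^ 2 ^ v + 1) ?_ (Nat.succ_pos _)
        calc torL q ((e, true) :: L) * (∏ w ∈ V, q ^ 2 ^ w) * (q ^ 2 ^ v + 1)
            = torL q ((e, true) :: L) * (q ^ 2 ^ v + 1) * ∏ w ∈ V, q ^ 2 ^ w := by ring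
          _ ≤ (q ^ e + 1) * torL q L * ∏ w ∈ V, q ^ 2 ^ w := Nat.mul_le_mul_right _ hle
          _ = (q ^ e + 1) * (torL q L * ∏ w ∈ V, q ^ 2 ^ w) := by ring
          _ ≤ (q ^ e * (q ^ 2 ^ v + 1)) * (q ^ torE L * ∏ w ∈ V, (q ^ 2 ^ w + 1)) :=
              Nat.mul_le_mul h1 hb
          _ = _ := by rw [show torE ((e, true) :: L) = e + torE L from rfl, pow_add]; ring
      · refine ⟨insert v V, fun w hw => ?_, ?_⟩
        · rcases Finset.mem_insert.1 hw with rfl | hw
          · exact hdvd.trans (Nat.dvd_lcm_left _ _)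
          · exact (hV w hw).trans (Nat.dvd_lcm_right _ _)
        · have h1 : (q ^ e + 1) * q ^ 2 ^ v ≤ q ^ e * (q ^ 2 ^ v + 1) := by
            have : q ^ 2 ^ v ≤ q ^ e := Nat.pow_le_pow_right (by omega) (by
              rw [hev]; exact Nat.le_mul_of_pos_right _ hd.pos)
            nlinarith
          rw [Finset.prod_insert hv, Finset.prod_insert hv]
          calc torL q ((e, true) :: L) * (q ^ 2 ^ v * ∏ w ∈ V, q ^ 2 ^ w)
              ≤ (q ^ e + 1) * torL q L * (q ^ 2 ^ v * ∏ w ∈ V, q ^ 2 ^ w) :=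
                Nat.mul_le_mul_right _ hlcm
            _ = (q ^ e + 1) * q ^ 2 ^ v * (torL q L * ∏ w ∈ V, q ^ 2 ^ w) := by ring
            _ ≤ q ^ e * (q ^ 2 ^ v + 1) * (q ^ torE L * ∏ w ∈ V, (q ^ 2 ^ w + 1)) :=
                Nat.mul_le_mul h1 hb
            _ = _ := by rw [show torE ((e, true) :: L) = e + torE L from rfl, pow_add]; ring

/-- The product of torus orders is bounded through Fermat-like numbers. -/
theorem tor_bound {q : ℕ} (hq : 2 ≤ q) (L : List (ℕ × Bool)) (hL : ∀ x ∈ L, 1 ≤ x.1) :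
    (q - 1) * torL q L ≤ q ^ (torE L + 1) := by
  obtain ⟨V, -, hb⟩ := tor_bound_aux hq L hL
  obtain ⟨K, hK⟩ : ∃ K, V ⊆ Finset.range K :=
    ⟨V.sup id + 1, fun v hv => Finset.mem_range.2 (Nat.lt_succ_of_le (Finset.le_sup (f := id) hv))⟩
  have htel : ∀ K, (q - 1) * ∏ v ∈ Finset.range K, (q ^ 2 ^ v + 1) + 1 = q ^ 2 ^ K := by
    intro K
    induction K with
    | zero => simp; omega
    | succ K ih =>
      rw [Finset.prod_range_succ, pow_succ 2 K, pow_mul, ← ih]
      obtain ⟨r, hr⟩ : ∃ r, (q - 1) * ∏ v ∈ Finset.range K, (q ^ 2 ^ v + 1) = r := ⟨_, rfl⟩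
      have hQ : q ^ 2 ^ K = r + 1 := by rw [← ih, hr]
      rw [← mul_assoc, hr]; ring
  have hprod : ∀ K, q * ∏ v ∈ Finset.range K, q ^ 2 ^ v = q ^ 2 ^ K := by
    intro K
    induction K with
    | zero => simp
    | succ K ih => rw [Finset.prod_range_succ, ← mul_assoc, ih, ← pow_add, pow_succ 2 K, mul_two]
  have hV : (q - 1) * ∏ v ∈ V, (q ^ 2 ^ v + 1) ≤ q * ∏ v ∈ V, q ^ 2 ^ v := by
    have hmiss : 0 < ∏ v ∈ Finset.range K \ V, q ^ 2 ^ v :=
      Finset.prod_pos fun v _ => pow_pos (by omega) _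
    refine Nat.le_of_mul_le_mul_right ?_ hmiss
    calc (q - 1) * (∏ v ∈ V, (q ^ 2 ^ v + 1)) * ∏ v ∈ Finset.range K \ V, q ^ 2 ^ v
        ≤ (q - 1) * (∏ v ∈ V, (q ^ 2 ^ v + 1)) * ∏ v ∈ Finset.range K \ V, (q ^ 2 ^ v + 1) :=
          Nat.mul_le_mul_left _ (Finset.prod_le_prod' fun v _ => Nat.le_succ _)
      _ = (q - 1) * ∏ v ∈ Finset.range K, (q ^ 2 ^ v + 1) := by
          rw [← Finset.prod_sdiff hK]; ring
      _ ≤ q ^ 2 ^ K := by have := htel K; omega
      _ = q * (∏ v ∈ V, q ^ 2 ^ v) * ∏ v ∈ Finset.range K \ V, q ^ 2 ^ v := by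
          rw [← hprod K, ← Finset.prod_sdiff hK]; ring
  refine Nat.le_of_mul_le_mul_right (c := ∏ v ∈ V, q ^ 2 ^ v) ?_
    (Finset.prod_pos fun v _ => pow_pos (by omega) _)
  calc (q - 1) * torL q L * ∏ v ∈ V, q ^ 2 ^ v
      = (q - 1) * (torL q L * ∏ v ∈ V, q ^ 2 ^ v) := by ring
    _ ≤ (q - 1) * (q ^ torE L * ∏ v ∈ V, (q ^ 2 ^ v + 1)) := Nat.mul_le_mul_left _ hb
    _ = q ^ torE L * ((q - 1) * ∏ v ∈ V, (q ^ 2 ^ v + 1)) := by ring
    _ ≤ q ^ torE L * (q * ∏ v ∈ V, q ^ 2 ^ v) := Nat.mul_le_mul_left _ hV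
    _ = _ := by ring

universe u

variable {F : Type u} [Field F] [Fintype F] (p : ℕ) [hp : Fact p.Prime] [hchar : CharP F p]
include hp hchar

theorem clog_pow_le {k j : ℕ} (hk : k ≤ p ^ j) : p ^ Nat.clog p k ≤ Nat.card F ^ j := by
  obtain ⟨⟨a, ha⟩, -, hcard⟩ := FiniteField.card F p
  replace hcard : Nat.card F = p ^ a := by rw [Nat.card_eq_fintype_card]; exact hcard
  rw [hcard, ← pow_mul]
  refine Nat.pow_le_pow_right hp.out.pos ((Nat.clog_le_of_le_pow hk).trans ?_)
  exact Nat.le_mul_of_pos_left _ ha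

theorem le_pow_pred (k : ℕ) : k ≤ p ^ (k - 1) := by
  rcases Nat.eq_zero_or_pos k with rfl | hk
  · simp
  · have := Nat.lt_pow_self (n := k - 1) hp.out.one_lt
    omega

theorem two_mul_le_pow (j : ℕ) : 2 * j ≤ p ^ j := by
  induction j with
  | zero => simp
  | succ j ih =>
    rw [pow_succ]
    have := hp.out.two_le
    have := Nat.one_le_pow j p hp.out.pos
    have := Nat.lt_pow_self (n := j) hp.out.one_lt
    nlinarith

/-- The order of `g` divides a product of torus orders and a small `p`-power. -/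
def Shape {V : Type u} [AddCommGroup V] [Module F V] (g : V ≃ₗ[F] V) (n : ℕ) : Prop :=
  ∃ (L : List (ℕ × Bool)) (c : ℕ), (∀ x ∈ L, 1 ≤ x.1) ∧
    en g ^ (Nat.lcm (Nat.gcd 2 (Nat.card F - 1)) (torL (Nat.card F) L) * p ^ c) = 1 ∧
    p ^ c * Nat.card F ^ torE L ≤ Nat.card F ^ n

/-- A sharper statement used at the top level. -/
def Shape' {V : Type u} [AddCommGroup V] [Module F V] (g : V ≃ₗ[F] V) (n : ℕ) : Prop :=
  (∃ c, (en g ^ p ^ c = 1 ∨ en g ^ p ^ c = -1) ∧ p ^ c ≤ Nat.card F ^ n) ∨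
  (∃ (L : List (ℕ × Bool)) (c : ℕ), (∀ x ∈ L, 1 ≤ x.1) ∧
    en g ^ (Nat.lcm (Nat.gcd 2 (Nat.card F - 1)) (torL (Nat.card F) L) * p ^ c) = 1 ∧
    p ^ c * Nat.card F ^ torE L ≤ Nat.card F ^ n ∧ (L = [] → p ^ c * Nat.card F ≤ Nat.card F ^ n))

theorem two_gcd_dvd_tor {x : ℕ × Bool} (hx : 1 ≤ x.1) :
    Nat.gcd 2 (Nat.card F - 1) ∣ torX (Nat.card F) x := by
  obtain ⟨e, sgn⟩ := x
  have hq : 1 ≤ Nat.card F := Nat.card_pos
  have h1 : Nat.card F - 1 ∣ Nat.card F ^ e - 1 := by
    have := Nat.sub_dvd_pow_sub_pow (Nat.card F) 1 e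
    rwa [one_pow] at this
  cases sgn with
  | false => exact (Nat.gcd_dvd_right _ _).trans h1
  | true =>
    show _ ∣ Nat.card F ^ e + 1
    have : Nat.card F ^ e + 1 = (Nat.card F ^ e - 1) + 2 := by
      have := Nat.one_le_pow e _ hq; omega
    rw [this]
    exact Nat.dvd_add ((Nat.gcd_dvd_right _ _).trans h1) (Nat.gcd_dvd_left _ _)

theorem shape_main : ∀ (n : ℕ) {V : Type u} [AddCommGroup V] [Module F V] [FiniteDimensional F V]
    (B : LinearMap.BilinForm F V) (g : V ≃ₗ[F] V), LinearMap.IsAlt B → LinearMap.Nondegenerate B →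
    Preserves B g → Module.finrank F V = 2 * n → 1 ≤ n →
    Shape p g n ∧ Shape' p g n := by
  intro n
  induction n using Nat.strong_induction_on with
  | _ n ih =>
  intro V _ _ _ B g hA hN hg hfin hn
  haveI : Nontrivial V := Module.nontrivial_of_finrank_pos (R := F) (by omega)
  have hT := isTraceForm_of_isAlt hA hN
  obtain ⟨b, m', hord, -, -, hsep⟩ := exists_parts p g
  set s := g ^ p ^ b with hs
  have hsp : Preserves B s := preserves_pow hg _
  haveI := finite_equiv (F := F) (V := V)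
  have hu : (en g ^ m') ^ p ^ b = 1 := by
    rw [← pow_mul, mul_comm, ← hord, ← en_pow, pow_orderOf_eq_one]; rfl
  have hm'pos : 0 < m' := by
    rcases Nat.eq_zero_or_pos m' with h0 | h0
    · exact absurd (by rw [hord, h0, mul_zero]) (orderOf_pos g).ne'
    · exact h0
  have hcombine : ∀ X c, en s ^ X = 1 → (en g ^ m') ^ p ^ c = 1 → en g ^ (X * p ^ c) = 1 := by
    intro X c hX hc
    rw [← pow_mul, ← en_pow] at hc
    have h3 : orderOf g ∣ m' * p ^ c :=
      orderOf_dvd_of_pow_eq_one (LinearEquiv.toLinearMap_injective hc)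
    rw [hord, mul_comm (p ^ b)] at h3
    obtain ⟨t, ht⟩ := Nat.dvd_of_mul_dvd_mul_left hm'pos h3
    rw [ht, show X * (p ^ b * t) = p ^ b * X * t by ring, pow_mul, pow_mul, ← en_pow, ← hs, hX, one_pow]
  haveI : CharP (Module.End F V) p :=
    charP_of_injective_algebraMap (algebraMap F (Module.End F V)).injective p
  have hnil : (en g ^ m' - 1) ^ p ^ b = 0 := by
    rw [sub_pow_char_pow_of_commute (p := p) (h := Commute.one_right _), one_pow, hu, sub_self]
  have hgs : Commute (en g) (en s) := by rw [hs, en_pow]; exact Commute.self_pow _ _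
  -- a single torus block
  have hblock : ∀ e k (sgn : Bool), n = e * k → 1 ≤ e → en s ^ torX (Nat.card F) (e, sgn) = 1 →
      (en g ^ m') ^ p ^ Nat.clog p k = 1 → Shape p g n ∧ Shape' p g n := by
    intro e k sgn hnk he hsX huk
    have hk : 1 ≤ k := by
      rcases Nat.eq_zero_or_pos k with rfl | h
      · simp at hnk; omega
      · exact h
    have hpos : ∀ x ∈ [(e, sgn)], 1 ≤ x.1 := by simp [he]
    have hpw : en g ^ (Nat.lcm (Nat.gcd 2 (Nat.card F - 1)) (torL (Nat.card F) [(e, sgn)]) *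
        p ^ Nat.clog p k) = 1 := by
      refine hcombine _ _ ?_ huk
      obtain ⟨t, ht⟩ : torX (Nat.card F) (e, sgn) ∣
          Nat.lcm (Nat.gcd 2 (Nat.card F - 1)) (torL (Nat.card F) [(e, sgn)]) :=
        (Nat.dvd_lcm_left _ _).trans (Nat.dvd_lcm_right _ _)
      rw [ht, pow_mul, hsX, one_pow]
    have hle : p ^ Nat.clog p k * Nat.card F ^ torE [(e, sgn)] ≤ Nat.card F ^ n := by
      refine le_trans (Nat.mul_le_mul_right _ (clog_pow_le p (F := F) (le_pow_pred p (F := F) k))) ?_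
      rw [← pow_add]
      refine Nat.pow_le_pow_right Nat.card_pos ?_
      simp only [torE, add_zero, hnk]
      obtain ⟨k', rfl⟩ : ∃ k', k = k' + 1 := ⟨k - 1, by omega⟩
      rw [Nat.add_sub_cancel, mul_add, mul_one]
      have : k' ≤ e * k' := Nat.le_mul_of_pos_left _ he
      omega
    exact ⟨⟨_, _, hpos, hpw, hle⟩, Or.inr ⟨_, _, hpos, hpw, hle, fun h => by simp at h⟩⟩
  rcases trichotomy hT hsp hsep with ⟨W₁, W₂, hc, h1, h2', horth, hinv⟩ | hfield | hpair
  · -- orthogonal decomposition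
    obtain ⟨hi1, hi2⟩ := hinv (en g) hgs
    have part : ∀ W W' : Submodule F V, IsCompl W W' → W ≠ ⊥ → W' ≠ ⊥ →
        (∀ u ∈ W, ∀ v ∈ W', B u v = 0) → (hi : ∀ v ∈ W, en g v ∈ W) →
        ∃ n', 1 ≤ n' ∧ n' < n ∧ Module.finrank F W = 2 * n' ∧
          ∃ h : W ≃ₗ[F] W, (∀ w : W, (h w : V) = g w) ∧ Shape p h n' := by
      intro W W' hc hW hW' ho hi
      have hA' : LinearMap.IsAlt (B.restrict W) := fun u => hA (u : V)
      have hnd : GLOrders.NonDegOn B W := fun u hu h => hN.1 u fun v => by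
        obtain ⟨a, ha, c, hc', rfl⟩ := Submodule.mem_sup.1
          (hc.sup_eq_top ▸ Submodule.mem_top : v ∈ W ⊔ W')
        rw [map_add, h a ha, ho u hu c hc', add_zero]
      obtain ⟨n', hn'⟩ := GLOrders.even_finrank_of_nonDegOn hA hnd
      have h1' : ∀ u : W, (∀ v : W, (B.restrict W) u v = 0) → u = 0 := fun u h =>
        Subtype.ext (hnd u u.2 fun v hv => h ⟨v, hv⟩)
      have hN' : LinearMap.Nondegenerate (B.restrict W) :=
        ⟨h1', fun v h => h1' v fun u => by rw [← hA'.neg u v, h u, neg_zero]⟩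
      have hpos : 0 < Module.finrank F W := by
        rw [pos_iff_ne_zero, Ne, Submodule.finrank_eq_zero]; exact hW
      have hpos' : 0 < Module.finrank F W' := by
        rw [pos_iff_ne_zero, Ne, Submodule.finrank_eq_zero]; exact hW'
      have hsum := Submodule.finrank_add_eq_of_isCompl hc
      have hinj : Function.Injective ((en g).restrict hi) := fun a c e =>
        Subtype.ext (g.injective (congrArg Subtype.val e))
      let h : W ≃ₗ[F] W := LinearEquiv.ofInjectiveEndo _ hinj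
      have hh : ∀ w : W, (h w : V) = g w := fun w => rfl
      have hlt : n' < n := by omega
      have hsh := (ih n' hlt (B.restrict W) h hA' hN' (fun u v => hg u v) (by omega) (by omega)).1
      exact ⟨n', by omega, hlt, by omega, h, hh, hsh⟩
    obtain ⟨n₁, hn₁, -, hf₁, e₁, he₁, L₁, c₁, hL₁, hp₁, hb₁⟩ :=
      part W₁ W₂ hc h1 h2' (fun u hu v hv => (horth u hu v hv).1) hi1
    obtain ⟨n₂, hn₂, -, hf₂, e₂, he₂, L₂, c₂, hL₂, hp₂, hb₂⟩ :=
      part W₂ W₁ hc.symm h2' h1 (fun u hu v hv => (horth v hv u hu).2) hi2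
    have hn12 : n₁ + n₂ = n := by
      have := Submodule.finrank_add_eq_of_isCompl hc
      omega
    have hval : ∀ (W : Submodule F V) (e : W ≃ₗ[F] W), (∀ w : W, (e w : V) = g w) →
        ∀ (j : ℕ) (w : W), (en g ^ j) (w : V) = ((en e ^ j) w : V) := by
      intro W e he j
      induction j with
      | zero => intro w; rfl
      | succ j ihj =>
        intro w
        rw [pow_succ, pow_succ, Module.End.mul_apply, Module.End.mul_apply]
        show (en g ^ j) (g w) = _
        rw [← he w, ihj]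
        rfl
    have hpos : ∀ x ∈ L₁ ++ L₂, 1 ≤ x.1 := fun x hx =>
      (List.mem_append.1 hx).elim (hL₁ x) (hL₂ x)
    set two := Nat.gcd 2 (Nat.card F - 1)
    have hX : ∀ (Li : List (ℕ × Bool)) (ci : ℕ), torL (Nat.card F) Li ∣ torL (Nat.card F) (L₁ ++ L₂) →
        ci ≤ max c₁ c₂ → Nat.lcm two (torL (Nat.card F) Li) * p ^ ci ∣
          Nat.lcm two (torL (Nat.card F) (L₁ ++ L₂)) * p ^ max c₁ c₂ := fun Li ci h1 h2 =>
      Nat.mul_dvd_mul (Nat.lcm_dvd (Nat.dvd_lcm_left _ _) (h1.trans (Nat.dvd_lcm_right _ _)))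
        (pow_dvd_pow p h2)
    have hpw : en g ^ (Nat.lcm two (torL (Nat.card F) (L₁ ++ L₂)) * p ^ max c₁ c₂) = 1 := by
      refine LinearMap.ext fun w => ?_
      obtain ⟨u, hu, v, hv, rfl⟩ := Submodule.mem_sup.1
        (hc.sup_eq_top ▸ Submodule.mem_top : w ∈ W₁ ⊔ W₂)
      obtain ⟨t₁, ht₁⟩ := hX L₁ c₁ (torL_append _ L₁ L₂ ▸ Nat.dvd_lcm_left _ _) (le_max_left _ _)
      obtain ⟨t₂, ht₂⟩ := hX L₂ c₂ (torL_append _ L₁ L₂ ▸ Nat.dvd_lcm_right _ _) (le_max_right _ _)
      rw [map_add, map_add]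
      congr 1
      · rw [hval W₁ e₁ he₁ _ ⟨u, hu⟩, ht₁, pow_mul, hp₁, one_pow]; rfl
      · rw [hval W₂ e₂ he₂ _ ⟨v, hv⟩, ht₂, pow_mul, hp₂, one_pow]; rfl
    have hq1 : 1 ≤ Nat.card F := Nat.card_pos
    have hmax : p ^ max c₁ c₂ * Nat.card F ^ torE (L₁ ++ L₂) ≤ Nat.card F ^ n := by
      rw [torE_append, pow_add, ← hn12, pow_add]
      have h1p := Nat.one_le_pow c₁ p hp.out.pos
      have h2p := Nat.one_le_pow c₂ p hp.out.pos
      rcases le_total c₁ c₂ with h | h
      · rw [max_eq_right h]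
        calc p ^ c₂ * (Nat.card F ^ torE L₁ * Nat.card F ^ torE L₂)
            = Nat.card F ^ torE L₁ * (p ^ c₂ * Nat.card F ^ torE L₂) := by ring
          _ ≤ Nat.card F ^ n₁ * Nat.card F ^ n₂ :=
              Nat.mul_le_mul (le_trans (Nat.le_mul_of_pos_left _ h1p) hb₁) hb₂
      · rw [max_eq_left h]
        calc p ^ c₁ * (Nat.card F ^ torE L₁ * Nat.card F ^ torE L₂)
            = (p ^ c₁ * Nat.card F ^ torE L₁) * Nat.card F ^ torE L₂ := by ring
          _ ≤ Nat.card F ^ n₁ * Nat.card F ^ n₂ :=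
              Nat.mul_le_mul hb₁ (le_trans (Nat.le_mul_of_pos_left _ h2p) hb₂)
    refine ⟨⟨_, _, hpos, hpw, hmax⟩, Or.inr ⟨_, _, hpos, hpw, hmax, fun h => ?_⟩⟩
    obtain ⟨rfl, rfl⟩ := List.append_eq_nil_iff.1 h
    simp only [torE, pow_zero, mul_one] at hb₁ hb₂
    rw [← hn12, pow_add]
    rcases le_total c₁ c₂ with h' | h'
    · rw [max_eq_right h', mul_comm]
      exact Nat.mul_le_mul (Nat.le_self_pow (by omega) _) hb₂
    · rw [max_eq_left h']
      exact Nat.mul_le_mul hb₁ (Nat.le_self_pow (by omega) _)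
  · -- irreducible minimal polynomial
    obtain ⟨f, -, hfi, hf0, hfd, hfa⟩ := hfield
    haveI := Fact.mk hfi
    have hpw : ∀ X (c : F), AdjoinRoot.root f ^ X = AdjoinRoot.of f c → ∀ v, (en s ^ X) v = c • v :=
      fun X c hX v => apply_pow_eq_smul hX (by rw [hfa]; rfl)
    rcases self_dual_bilin hf0 hfd with hroot | ⟨e, hde, hroot⟩
    · set c := Nat.clog p (Module.finrank F V) with hcdef
      have hbd : p ^ c ≤ Nat.card F ^ n := by
        rw [hcdef, hfin]; exact clog_pow_le p (F := F) (two_mul_le_pow p (F := F) n)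
      have hsq : AdjoinRoot.root f = AdjoinRoot.of f 1 ∨ AdjoinRoot.root f = AdjoinRoot.of f (-1) := by
        rw [map_neg, map_one]; exact sq_eq_one_iff.1 hroot
      have hs1 : en s = 1 ∨ en s = -1 := by
        rcases hsq with h | h
        · left; ext v; simpa using hpw 1 1 (by rw [pow_one, h]) v
        · right; ext v; simpa using hpw 1 (-1) (by rw [pow_one, h]) v
      have htwo : en s ^ Nat.gcd 2 (Nat.card F - 1) = 1 := by
        by_cases h2 : (2 : F) = 0
        · have : (-1 : Module.End F V) = 1 := LinearMap.ext fun v => by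
            show -v = v
            have h3 : v + v = 0 := by rw [← two_smul F v, h2, zero_smul]
            exact neg_eq_of_add_eq_zero_left h3
          rcases hs1 with h | h <;> simp [h, this]
        · have hodd : Odd (Nat.card F) := by
            rw [Nat.card_eq_fintype_card]
            exact Nat.odd_iff.2 (FiniteField.odd_card_of_char_ne_two
              (fun h => h2 (by haveI := ringChar.of_eq h; exact CharP.cast_eq_zero F 2)))
          obtain ⟨t, ht⟩ := hodd
          rw [show Nat.gcd 2 (Nat.card F - 1) = 2 by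
            rw [ht, Nat.add_sub_cancel]; simp]
          rcases hs1 with h | h <;> simp [h]
      refine ⟨⟨[], c, by simp, ?_, by simpa [torE] using hbd⟩, Or.inl ⟨c, ?_, hbd⟩⟩
      · show en g ^ (Nat.lcm _ 1 * p ^ c) = 1
        rw [Nat.lcm_one_right]
        exact hcombine _ _ htwo (pow_clog_eq_one p hu)
      · -- `g ^ p ^ c = ± 1`
        have hu' := pow_clog_eq_one p hu
        rw [← hcdef, ← pow_mul, ← en_pow] at hu'
        have h3 : orderOf g ∣ m' * p ^ c :=
          orderOf_dvd_of_pow_eq_one (LinearEquiv.toLinearMap_injective hu')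
        rw [hord, mul_comm (p ^ b)] at h3
        obtain ⟨t, ht⟩ := Nat.dvd_of_mul_dvd_mul_left hm'pos h3
        rw [ht, pow_mul, ← en_pow, ← hs]
        rcases hs1 with h | h
        · left; rw [h, one_pow]
        · rw [h]
          rcases Nat.even_or_odd t with ho | ho
          · left; exact ho.neg_one_pow
          · right; exact ho.neg_one_pow
    · obtain ⟨k, hk, -⟩ := exists_det_norm hfa
      have he : 1 ≤ e := by
        have := hfi.natDegree_pos
        omega
      have hnk : n = e * k := by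
        rw [hfin, hde, mul_assoc] at hk
        exact Nat.eq_of_mul_eq_mul_left two_pos hk
      refine hblock e k true hnk he (LinearMap.ext fun v => ?_) ?_
      · rw [hpw _ 1 (by rw [map_one]; exact hroot), one_smul]; rfl
      · have hc : Commute (en g ^ m' - 1) (en s) := ((hgs.pow_left m')).sub_left (Commute.one_left _)
        have h0 := pow_eq_zero_of_field hfa hc hnil hk
        have h1 := pow_eq_zero_of_le (Nat.le_pow_clog hp.out.one_lt k) h0
        rw [sub_pow_char_pow_of_commute (p := p) (h := Commute.one_right _), one_pow,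
          sub_eq_zero] at h1
        exact h1
  · -- a pair of dual factors
    obtain ⟨f, W₁, W₂, -, hfi, hf0, hc, -, hi1', hi2', hinv, hf1⟩ := hpair
    haveI := Fact.mk hfi
    obtain ⟨hw1, -⟩ := hinv (en s) (Commute.refl _)
    have hres : ∀ (g : F[X]) (v : W₁), ((aeval ((en s).restrict hw1) g) v : V) =
        aeval (en s) g (v : V) := by
      intro g v
      induction g using Polynomial.induction_on' generalizing v with
      | add a b ha hb => simp [ha, hb]
      | monomial k c =>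
        rw [aeval_monomial, aeval_monomial, Module.End.mul_apply, Module.End.mul_apply,
          Algebra.algebraMap_eq_smul_one, Algebra.algebraMap_eq_smul_one, LinearMap.smul_apply,
          LinearMap.smul_apply, Module.End.one_apply, Module.End.one_apply, Submodule.coe_smul,
          Module.End.pow_restrict k (h := hw1)]
        rfl
    have hT' : aeval ((en s).restrict hw1) f = 0 :=
      LinearMap.ext fun v => Subtype.ext (by rw [hres, hf1 v v.2]; rfl)
    obtain ⟨k, hk, -⟩ := exists_det_norm hT'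
    obtain ⟨hKfin, hKcard⟩ := natCard_adjoinRoot (F := F) hfi.ne_zero
    have hroot : AdjoinRoot.root f ^ (Nat.card F ^ f.natDegree - 1) = 1 := by
      haveI := Fintype.ofFinite (AdjoinRoot f)
      rw [← hKcard, Nat.card_eq_fintype_card]
      exact FiniteField.pow_card_sub_one_eq_one _ (root_ne_zero hf0)
    have hnk : n = f.natDegree * k := by
      have := Submodule.finrank_add_eq_of_isCompl hc
      rw [← finrank_eq_of_pair hT hc hi1' hi2', hk, hfin] at this
      omega
    have hone : ∀ (G : V ≃ₗ[F] V), Preserves B G → Commute (en G) (en s) →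
        (∀ v ∈ W₁, G v = v) → en G = 1 := fun G hG hc' h1 =>
      eq_smul_of_pair hT hc hi2' (fun u v => hG u v) (hinv (en G) hc').2 h1
    refine hblock f.natDegree k false hnk hfi.natDegree_pos ?_ ?_
    · show en s ^ (Nat.card F ^ f.natDegree - 1) = 1
      rw [← en_pow]
      refine hone _ (preserves_pow hsp _) (by rw [en_pow]; exact Commute.pow_self _ _)
        fun v hv => ?_
      show en (s ^ _) v = v
      rw [en_pow, apply_pow_eq_smul (c := (1 : F)) (by rw [hroot, map_one]) (hf1 v hv), one_smul]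
    · obtain ⟨hg1, -⟩ := hinv (en g ^ m' - 1) (((hgs.pow_left m')).sub_left (Commute.one_left _))
      set N := (en g ^ m' - 1).restrict hg1 with hN'
      have hNp : N ^ p ^ b = 0 := by
        rw [hN', Module.End.pow_restrict (p ^ b) (h := hg1)]
        exact LinearMap.ext fun v => Subtype.ext (by
          show ((en g ^ m' - 1) ^ p ^ b) (v : V) = 0
          rw [hnil]; rfl)
      have hcN : Commute N ((en s).restrict hw1) := LinearMap.ext fun v => Subtype.ext (by
        show (en g ^ m' - 1) (en s v) = en s ((en g ^ m' - 1) v)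
        exact LinearMap.congr_fun (((hgs.pow_left m')).sub_left (Commute.one_left _)).eq (v : V))
      have h0 := pow_eq_zero_of_field hT' hcN hNp hk
      have h1 := pow_eq_zero_of_le (Nat.le_pow_clog hp.out.one_lt k) h0
      rw [hN', Module.End.pow_restrict (p ^ Nat.clog p k) (h := hg1)] at h1
      rw [← pow_mul, ← en_pow]
      refine hone _ (preserves_pow hg _) (by rw [en_pow]; exact hgs.pow_left _) fun v hv => ?_
      show en (g ^ _) v = v
      have h2 := congrArg Subtype.val (LinearMap.congr_fun h1 ⟨v, hv⟩)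
      have h3 : ((en g ^ m' - 1) ^ p ^ Nat.clog p k) v = 0 := h2
      rw [sub_pow_char_pow_of_commute (p := p) (h := Commute.one_right _), one_pow,
        LinearMap.sub_apply, Module.End.one_apply, sub_eq_zero, ← pow_mul] at h3
      rw [en_pow]
      exact h3

/-- The bound on element orders of `PSp_{2m}(q)`. -/
theorem psp_order_bound {m : ℕ} (hm : 1 ≤ m) (x : Cfsg.PSp m F) :
    (Nat.card F - 1) * orderOf x ≤ Nat.card F ^ (m + 1) := by
  obtain ⟨g, hg, hpow⟩ := exists_iso_of_psp x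
  obtain ⟨q, hqdef⟩ : ∃ q, Nat.card F = q := ⟨_, rfl⟩
  have hq : 2 ≤ q := hqdef ▸ Finite.one_lt_card
  have h := (shape_main p m (spB m F) g spB_alt spB_nondeg hg (by simp [two_mul]) hm).2
  rcases h with ⟨c, hc, hle⟩ | ⟨L, c, hL, hpw, hle, hnil⟩
  · have hd : orderOf x ∣ p ^ c := orderOf_dvd_of_pow_eq_one ((hpow _).2 hc)
    rw [hqdef] at hle ⊢
    calc (q - 1) * orderOf x ≤ q * p ^ c :=
          Nat.mul_le_mul (Nat.sub_le _ _) (Nat.le_of_dvd (pow_pos hp.out.pos _) hd)
      _ ≤ q * q ^ m := Nat.mul_le_mul_left _ hle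
      _ = q ^ (m + 1) := by ring
  · have htor : ∀ L : List (ℕ × Bool), (∀ x ∈ L, 1 ≤ x.1) → L ≠ [] →
        Nat.gcd 2 (Nat.card F - 1) ∣ torL (Nat.card F) L := fun L hL hne => by
      obtain ⟨y, L', rfl⟩ := List.exists_cons_of_ne_nil hne
      exact (two_gcd_dvd_tor p (F := F) (hL y (List.mem_cons_self ..))).trans (Nat.dvd_lcm_left _ _)
    have hd : orderOf x ∣ _ := orderOf_dvd_of_pow_eq_one ((hpow _).2 (Or.inl hpw))
    rw [hqdef] at hd hle hnil htor ⊢
    have hlp : 0 < torL q L := by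
      clear hd hle hnil htor hpw
      induction L with
      | nil => exact one_pos
      | cons y L ihL =>
        refine Nat.lcm_pos ?_ (ihL fun z hz => hL z (List.mem_cons_of_mem _ hz))
        have h1 : 1 < q ^ y.1 := Nat.one_lt_pow (by have := hL y (List.mem_cons_self ..); omega) (by omega)
        unfold torX; split_ifs <;> omega
    have h2 : 0 < Nat.gcd 2 (q - 1) := Nat.gcd_pos_of_pos_left _ two_pos
    have hle' : orderOf x ≤ Nat.lcm (Nat.gcd 2 (q - 1)) (torL q L) * p ^ c :=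
      Nat.le_of_dvd (Nat.mul_pos (Nat.lcm_pos h2 hlp) (pow_pos hp.out.pos _)) hd
    refine le_trans (Nat.mul_le_mul_left _ hle') ?_
    by_cases hLnil : L = []
    · subst hLnil
      have h := hnil rfl
      simp only [torL, Nat.lcm_one_right]
      calc (q - 1) * (Nat.gcd 2 (q - 1) * p ^ c)
          = ((q - 1) * Nat.gcd 2 (q - 1)) * p ^ c := by ring
        _ ≤ (q * q) * p ^ c := Nat.mul_le_mul_right _ (Nat.mul_le_mul (Nat.sub_le _ _)
            ((Nat.le_of_dvd two_pos (Nat.gcd_dvd_left _ _)).trans hq))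
        _ = q * (p ^ c * q) := by ring
        _ ≤ q * q ^ m := Nat.mul_le_mul_left _ h
        _ = q ^ (m + 1) := by ring
    · rw [Nat.lcm_eq_right (htor L hL hLnil)]
      calc (q - 1) * (torL q L * p ^ c) = ((q - 1) * torL q L) * p ^ c := by ring
        _ ≤ q ^ (torE L + 1) * p ^ c := Nat.mul_le_mul_right _ (tor_bound hq L hL)
        _ = q * (p ^ c * q ^ torE L) := by ring
        _ ≤ q * q ^ m := Nat.mul_le_mul_left _ hle
        _ = q ^ (m + 1) := by ring

end Cfsg.Agent.FormTorus
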