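import Cfsg.Agent.Lib.FormTorus.SymplecticOrders

/-!
The semisimple and unipotent shape of the elements of odd order of `PSp_{2n}(q)`, `q` odd.
-/

set_option autoImplicit false
set_option linter.unusedSectionVars false

namespace Cfsg.Agent.FormTorus

open Polynomial FormsLib

variable {F : Type*} [Field F] [Fintype F] (p : ℕ) [hp : Fact p.Prime] [hchar : CharP F p]
include hp hchar

theorem coprime_p_qe {e : ℕ} (he : 1 ≤ e) {X : ℕ}
    (hX : X = Nat.card F ^ e + 1 ∨ X = Nat.card F ^ e - 1) : Nat.Coprime p X := by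
  obtain ⟨⟨a, ha⟩, hp', hcard⟩ := FiniteField.card F p
  replace hcard : Nat.card F = p ^ a := by rw [Nat.card_eq_fintype_card]; exact hcard
  have hd : p ∣ Nat.card F ^ e := by
    rw [hcard, ← pow_mul]
    exact dvd_pow_self p (Nat.mul_ne_zero (Nat.pos_iff_ne_zero.1 ha) (by omega))
  have h1 : 1 ≤ Nat.card F ^ e := Nat.one_le_pow _ _ Nat.card_pos
  rw [hp.out.coprime_iff_not_dvd]
  intro h
  rcases hX with rfl | rfl
  · exact hp.out.not_dvd_one ((Nat.dvd_add_right hd).1 h)
  · have := Nat.dvd_sub hd h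
    rw [Nat.sub_sub_self h1] at this
    exact hp.out.not_dvd_one this

/-- The shape of an element of odd order. -/
theorem classifySp (h2 : (2 : F) ≠ 0) {n : ℕ} (hn : 1 ≤ n) (x : Cfsg.PSp n F)
    (hx : ¬ 2 ∣ orderOf x) :
    (∃ y : Cfsg.PSp n F, orderOf y = 2 * orderOf x) ∨
    orderOf x ∣ p ^ Nat.clog p (2 * n) ∨
    ∃ e k S P, n = e * k ∧ 1 ≤ e ∧ orderOf x = Nat.lcm S P ∧
      (S ∣ Nat.card F ^ e + 1 ∨ S ∣ Nat.card F ^ e - 1) ∧ P ∣ p ^ Nat.clog p k := by
  obtain ⟨g, hg, hpow⟩ := exists_iso_of_psp x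
  obtain ⟨b, m', hord, -, -, hsep⟩ := exists_parts p g
  haveI : Nonempty (Fin n) := ⟨⟨0, by omega⟩⟩
  have hT := spB_trace (m := n) (F := F)
  set V := Fin n ⊕ Fin n → F
  set s := g ^ p ^ b with hs
  have hsp : Preserves (spB n F) s := preserves_pow hg _
  have hfin : Module.finrank F V = 2 * n := by simp [V, two_mul]
  have hNodd : Odd (orderOf x) := Nat.not_even_iff_odd.1 (fun h => hx (even_iff_two_dvd.1 h))
  have hu : (en g ^ m') ^ p ^ b = 1 := by
    rw [← pow_mul, mul_comm, ← hord, ← en_pow, pow_orderOf_eq_one]; rfl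
  have hm'pos : 0 < m' := by
    haveI := finite_equiv (F := F) (V := V)
    rcases Nat.eq_zero_or_pos m' with h0 | h0
    · exact absurd (by rw [hord, h0, mul_zero]) (orderOf_pos g).ne'
    · exact h0
  -- a bound on the `p`-part
  have hbound : ∀ c, (en g ^ m') ^ p ^ c = 1 → p ^ b ∣ p ^ c := by
    intro c h
    rw [← pow_mul, ← en_pow] at h
    have h3 : orderOf g ∣ m' * p ^ c :=
      orderOf_dvd_of_pow_eq_one (LinearEquiv.toLinearMap_injective h)
    rw [hord, mul_comm (p ^ b)] at h3
    exact Nat.dvd_of_mul_dvd_mul_left hm'pos h3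
  have hdiv : ∀ X c, en s ^ X = 1 → (en g ^ m') ^ p ^ c = 1 → orderOf x ∣ X * p ^ c := by
    intro X c hX hc
    obtain ⟨t, ht⟩ := hbound c hc
    refine orderOf_dvd_of_pow_eq_one ((hpow _).2 (Or.inl ?_))
    show en g ^ (X * p ^ c) = 1
    rw [ht, show X * (p ^ b * t) = p ^ b * X * t by ring, pow_mul, pow_mul, ← en_pow, ← hs, hX,
      one_pow]
  haveI : CharP (Module.End F V) p :=
    charP_of_injective_algebraMap (algebraMap F (Module.End F V)).injective p
  have hnil : (en g ^ m' - 1) ^ p ^ b = 0 := by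
    rw [sub_pow_char_pow_of_commute (p := p) (h := Commute.one_right _), one_pow, hu, sub_self]
  have hsplit : ∀ e k X, n = e * k → 1 ≤ e →
      (X = Nat.card F ^ e + 1 ∨ X = Nat.card F ^ e - 1) → en s ^ X = 1 →
      (en g ^ m') ^ p ^ Nat.clog p k = 1 →
      ∃ e k S P, n = e * k ∧ 1 ≤ e ∧ orderOf x = Nat.lcm S P ∧
        (S ∣ Nat.card F ^ e + 1 ∨ S ∣ Nat.card F ^ e - 1) ∧ P ∣ p ^ Nat.clog p k := by
    intro e k X hnek he hX hsX huk
    have hco := ((coprime_p_qe p (F := F) he hX).pow_left (Nat.clog p k)).symm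
    refine ⟨e, k, (orderOf x).gcd X, (orderOf x).gcd (p ^ Nat.clog p k), hnek, he, ?_, ?_,
      Nat.gcd_dvd_right _ _⟩
    · rw [Nat.Coprime.lcm_eq_mul ((hco.coprime_dvd_left (Nat.gcd_dvd_right _ _)).coprime_dvd_right
        (Nat.gcd_dvd_right _ _)), ← hco.gcd_mul, Nat.gcd_eq_left (hdiv X _ hsX huk)]
    · rcases hX with rfl | rfl
      · exact Or.inl (Nat.gcd_dvd_right _ _)
      · exact Or.inr (Nat.gcd_dvd_right _ _)
  have hgs : Commute (en g) (en s) := by rw [hs, en_pow]; exact Commute.self_pow _ _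
  rcases trichotomy hT hsp hsep with ⟨W₁, W₂, hc, h1, h2', horth, hinv⟩ | hfield | hpair
  · left
    obtain ⟨hi1, hi2⟩ := hinv (en g) hgs
    let e := Submodule.prodEquivOfIsCompl W₁ W₂ hc
    let z : V ≃ₗ[F] V :=
      (e.symm.trans ((LinearEquiv.refl F W₁).prodCongr (LinearEquiv.neg F))).trans e
    have hzap : ∀ (u : W₁) (v : W₂), z ((u : V) + v) = (u : V) - (v : V) := by
      intro u v
      have hh : e.symm ((u : V) + v) = (u, v) := e.injective (by rw [e.apply_symm_apply]; rfl)
      show e (((LinearEquiv.refl F W₁).prodCongr (LinearEquiv.neg F)) (e.symm ((u : V) + v))) = _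
      rw [hh, sub_eq_add_neg]
      rfl
    have hdec : ∀ w, ∃ (u : W₁) (v : W₂), (u : V) + v = w := fun w =>
      ⟨(e.symm w).1, (e.symm w).2, e.apply_symm_apply w⟩
    have hzp : Preserves (spB n F) z := by
      intro x y
      obtain ⟨u, v, rfl⟩ := hdec x
      obtain ⟨u', v', rfl⟩ := hdec y
      rw [hzap, hzap]
      simp only [map_add, map_sub, LinearMap.add_apply, LinearMap.sub_apply,
        (horth u u.2 v' v'.2).1, (horth u' u'.2 v v.2).2, add_zero, sub_zero, zero_add, zero_sub,
        neg_neg, sub_neg_eq_add]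
    have hzcomm : Commute (en g) (en z) := by
      refine LinearMap.ext fun w => ?_
      obtain ⟨u, v, rfl⟩ := hdec w
      show g (z _) = z (g _)
      rw [hzap, map_sub, map_add, hzap ⟨g u, hi1 u u.2⟩ ⟨g v, hi2 v v.2⟩]
    have hz2 : en z * en z = 1 := by
      refine LinearMap.ext fun w => ?_
      obtain ⟨u, v, rfl⟩ := hdec w
      show z (z _) = _
      rw [hzap, sub_eq_add_neg, ← Submodule.coe_neg, hzap, Submodule.coe_neg, sub_neg_eq_add]
      rfl
    obtain ⟨y, hy⟩ := exists_psp (spB_alt (m := n) (F := F)) spB_nondeg (m := n) hfin (g * z)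
      (hg.mul hzp)
    have hgz : ∀ j, (((g * z : V ≃ₗ[F] V)) : Module.End F V) ^ j = en g ^ j * en z ^ j :=
      fun j => hzcomm.mul_pow j
    refine ⟨y, Nat.dvd_antisymm ?_ ?_⟩
    · refine orderOf_dvd_of_pow_eq_one ((hy _).2 (Or.inl ?_))
      rw [hgz, pow_two_mul_of_pm ((hpow _).1 (pow_orderOf_eq_one x)), pow_mul, pow_two, hz2, one_pow,
        one_mul]
    · have hj := (hy _).1 (pow_orderOf_eq_one y)
      have h2j := pow_two_mul_of_pm hj
      rw [hgz, pow_mul (en z), pow_two, hz2, one_pow, mul_one] at h2j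
      have hN : orderOf x ∣ orderOf y :=
        (Nat.coprime_two_right.2 hNodd).dvd_of_dvd_mul_left
          (orderOf_dvd_of_pow_eq_one ((hpow _).2 (Or.inl h2j)))
      refine (Nat.coprime_two_left.2 hNodd).mul_dvd_of_dvd_of_dvd ?_ hN
      by_contra hodd
      obtain ⟨w, hw⟩ : Odd (orderOf y) :=
        Nat.not_even_iff_odd.1 (fun h => hodd (even_iff_two_dvd.1 h))
      have hgj := (hpow _).1 (orderOf_dvd_iff_pow_eq_one.1 hN)
      rw [hgz] at hj
      have hzj : en z ^ orderOf y = en z := by
        rw [hw, pow_succ, pow_mul, pow_two, hz2, one_pow, one_mul]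
      rw [hzj] at hj
      obtain ⟨u0, hu0, hu0'⟩ := (Submodule.ne_bot_iff _).1 h1
      obtain ⟨v0, hv0, hv0'⟩ := (Submodule.ne_bot_iff _).1 h2'
      have hzu : z u0 = u0 := by simpa using hzap ⟨u0, hu0⟩ 0
      have hzv : z v0 = -v0 := by simpa using hzap 0 ⟨v0, hv0⟩
      have hval : ∀ w : V, (en g ^ orderOf y * en z) w = (en g ^ orderOf y) (z w) := fun _ => rfl
      have hnn : ∀ w : V, w = -w → w = 0 := fun w hw => by
        have h3 : (2 : F) • w = 0 := by rw [two_smul]; nth_rewrite 2 [hw]; exact add_neg_cancel w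
        exact (smul_eq_zero.1 h3).resolve_left h2
      rcases hgj with h | h <;> rcases hj with h' | h'
      · have := LinearMap.congr_fun h' v0
        rw [hval, hzv, h, Module.End.one_apply, Module.End.one_apply] at this
        exact hv0' (hnn _ this.symm)
      · have := LinearMap.congr_fun h' u0
        rw [hval, hzu, h, LinearMap.neg_apply, Module.End.one_apply] at this
        exact hu0' (hnn _ this)
      · have := LinearMap.congr_fun h' u0
        rw [hval, hzu, h, LinearMap.neg_apply, Module.End.one_apply] at this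
        exact hu0' (hnn _ this.symm)
      · have := LinearMap.congr_fun h' v0
        rw [hval, hzv, h, LinearMap.neg_apply, LinearMap.neg_apply, Module.End.one_apply,
          Module.End.one_apply, neg_neg] at this
        exact hv0' (hnn _ this)
  all_goals right
  · -- irreducible minimal polynomial
    obtain ⟨f, -, hfi, hf0, hfd, hfa⟩ := hfield
    haveI := Fact.mk hfi
    have hpw : ∀ X, AdjoinRoot.root f ^ X = 1 → en s ^ X = 1 := fun X hX =>
      LinearMap.ext fun v => by
        rw [apply_pow_eq_smul (c := (1 : F)) (by rw [hX, map_one]) (by rw [hfa]; rfl), one_smul]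
        rfl
    rcases self_dual_bilin hf0 hfd with hroot | ⟨e, hde, hroot⟩
    · left
      have hd := hdiv 2 (Nat.clog p (Module.finrank F V)) (hpw 2 hroot) (pow_clog_eq_one p hu)
      rw [hfin] at hd
      exact (Nat.coprime_two_right.2 hNodd).dvd_of_dvd_mul_left hd
    · right
      obtain ⟨k, hk, -⟩ := exists_det_norm hfa
      have he : 1 ≤ e := by
        have := hfi.natDegree_pos
        omega
      have huk : (en g ^ m') ^ p ^ Nat.clog p k = 1 := by
        have hc : Commute (en g ^ m' - 1) (en s) :=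
          ((hgs.pow_left m')).sub_left (Commute.one_left _)
        have h0 := pow_eq_zero_of_field hfa hc hnil hk
        have h1 := pow_eq_zero_of_le (Nat.le_pow_clog hp.out.one_lt k) h0
        rw [sub_pow_char_pow_of_commute (p := p) (h := Commute.one_right _), one_pow,
          sub_eq_zero] at h1
        exact h1
      refine hsplit e k _ ?_ he (Or.inl rfl) (hpw _ hroot) huk
      rw [hfin, hde, mul_assoc] at hk
      exact Nat.eq_of_mul_eq_mul_left two_pos hk
  · -- a pair of dual factors
    right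
    obtain ⟨f, W₁, W₂, -, hfi, hf0, hc, -, hi1', hi2', hinv, hf1⟩ := hpair
    haveI := Fact.mk hfi
    obtain ⟨hw1, -⟩ := hinv (en s) (Commute.refl _)
    have hres : ∀ (g : F[X]) (v : W₁), ((aeval ((en s).restrict hw1) g) v : V) =
        aeval (en s) g (v : V) := by
      intro g v
      induction g using Polynomial.induction_on' generalizing v with
      | add a b ha hb => simp [ha, hb]
      | monomial k c =>
        rw [aeval_monomial, aeval_monomial, Module.End.mul_apply, Module.End.mul_apply,
          Algebra.algebraMap_eq_smul_one, Algebra.algebraMap_eq_smul_one, LinearMap.smul_apply,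
          LinearMap.smul_apply, Module.End.one_apply, Module.End.one_apply, Submodule.coe_smul,
          Module.End.pow_restrict k (h := hw1)]
        rfl
    have hT' : aeval ((en s).restrict hw1) f = 0 :=
      LinearMap.ext fun v => Subtype.ext (by rw [hres, hf1 v v.2]; rfl)
    obtain ⟨k, hk, -⟩ := exists_det_norm hT'
    obtain ⟨hKfin, hKcard⟩ := natCard_adjoinRoot (F := F) hfi.ne_zero
    have hroot : AdjoinRoot.root f ^ (Nat.card F ^ f.natDegree - 1) = 1 := by
      haveI := Fintype.ofFinite (AdjoinRoot f)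
      rw [← hKcard, Nat.card_eq_fintype_card]
      exact FiniteField.pow_card_sub_one_eq_one _ (root_ne_zero hf0)
    have hnk : n = f.natDegree * k := by
      have := Submodule.finrank_add_eq_of_isCompl hc
      rw [← finrank_eq_of_pair hT hc hi1' hi2', hk, hfin] at this
      omega
    have hone : ∀ (G : V ≃ₗ[F] V), Preserves (spB n F) G → Commute (en G) (en s) →
        (∀ v ∈ W₁, G v = v) → en G = 1 := fun G hG hc' h1 =>
      eq_smul_of_pair hT hc hi2' (fun u v => hG u v) (hinv (en G) hc').2 h1
    have hsX : en s ^ (Nat.card F ^ f.natDegree - 1) = 1 := by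
      rw [← en_pow]
      refine hone _ (preserves_pow hsp _) (by rw [en_pow]; exact Commute.pow_self _ _)
        fun v hv => ?_
      show en (s ^ _) v = v
      rw [en_pow, apply_pow_eq_smul (c := (1 : F)) (by rw [hroot, map_one]) (hf1 v hv), one_smul]
    have huk : (en g ^ m') ^ p ^ Nat.clog p k = 1 := by
      obtain ⟨hg1, -⟩ := hinv (en g ^ m' - 1) (((hgs.pow_left m')).sub_left (Commute.one_left _))
      set N := (en g ^ m' - 1).restrict hg1 with hN
      have hNp : N ^ p ^ b = 0 := by
        rw [hN, Module.End.pow_restrict (p ^ b) (h := hg1)]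
        exact LinearMap.ext fun v => Subtype.ext (by
          show ((en g ^ m' - 1) ^ p ^ b) (v : V) = 0
          rw [hnil]; rfl)
      have hcN : Commute N ((en s).restrict hw1) := LinearMap.ext fun v => Subtype.ext (by
        show (en g ^ m' - 1) (en s v) = en s ((en g ^ m' - 1) v)
        exact LinearMap.congr_fun (((hgs.pow_left m')).sub_left (Commute.one_left _)).eq (v : V))
      have h0 := pow_eq_zero_of_field hT' hcN hNp hk
      have h1 := pow_eq_zero_of_le (Nat.le_pow_clog hp.out.one_lt k) h0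
      rw [hN, Module.End.pow_restrict (p ^ Nat.clog p k) (h := hg1)] at h1
      rw [← pow_mul, ← en_pow]
      refine hone _ (preserves_pow hg _) (by rw [en_pow]; exact hgs.pow_left _) fun v hv => ?_
      show en (g ^ _) v = v
      have h2 := congrArg Subtype.val (LinearMap.congr_fun h1 ⟨v, hv⟩)
      have h3 : ((en g ^ m' - 1) ^ p ^ Nat.clog p k) v = 0 := h2
      rw [sub_pow_char_pow_of_commute (p := p) (h := Commute.one_right _), one_pow,
        LinearMap.sub_apply, Module.End.one_apply, sub_eq_zero, ← pow_mul] at h3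
      rw [en_pow]
      exact h3
    exact hsplit _ k _ hnk hfi.natDegree_pos (Or.inr rfl) hsX huk

end Cfsg.Agent.FormTorus
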