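import Cfsg.Agent.Lib.FormTorus.UnitaryTorus

/-!
Element orders of `PSU_n(q)` prime to a divisor of `q + 1`.
-/

set_option autoImplicit false
set_option linter.unusedSectionVars false

namespace Cfsg.Agent.FormTorus

open Polynomial FormsLib Finset

variable {F : Type*} [Field F] [Fintype F] {q : ℕ} [hQ : AutPSU.QField F q]
  (p a : ℕ) [hp : Fact p.Prime] [CharP F p]

local notation "σ" => ((AutPSU.qb (F := F) q : F ≃+* F) : F →+* F)

theorem exists_zeta {r : ℕ} (hr : r.Prime) (hrq : r ∣ q + 1) :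
    ∃ ζ : Fˣ, orderOf ζ = r ∧ (ζ : F) ^ (q + 1) = 1 := by
  obtain ⟨g, hg⟩ := IsCyclic.exists_generator (α := Fˣ)
  have hd : r ∣ orderOf g := by
    rw [orderOf_eq_card_of_forall_mem_zpowers hg, Nat.card_units, AutPSU.QField.card (F := F) (q := q)]
    exact hrq.trans ⟨q - 1, by rw [← Nat.sq_sub_sq, one_pow]⟩
  obtain ⟨ζ, hζ⟩ := exists_orderOf_eq g hd
  refine ⟨ζ, hζ, ?_⟩
  rw [← Units.val_pow_eq_pow_val, orderOf_dvd_iff_pow_eq_one.1 (hζ ▸ hrq), Units.val_one]

/-- An element is either multipliable by `r` or has order dividing `p^e · tM`. -/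
theorem classify {n r : ℕ} (hn : 2 ≤ n) (hr : r.Prime) (hrq : r ∣ q + 1) (hrn : ¬ r ∣ n)
    (x : Cfsg.PSU n F q) (hx : ¬ r ∣ orderOf x) :
    (∃ y : Cfsg.PSU n F q, orderOf y = r * orderOf x) ∨
      orderOf x ∣ p ^ Nat.clog p n * tM q n := by
  have hF : Nat.card F = q ^ 2 := AutPSU.QField.card
  have hq2 : 2 ≤ q := AutPSU.QField.two_le F
  obtain ⟨g, hg, hdet, hpow⟩ := exists_iso_of_psu hn x
  have hB := isUnitary_of_isFlip (hermB_flip (F := F) (q := q) n)
  obtain ⟨b, m', hord, -, -, hsep⟩ := exists_parts p g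
  haveI : Nonempty (Fin n) := ⟨⟨0, by omega⟩⟩
  set s := g ^ p ^ b with hs
  have hsp : Preserves (hermB n σ) s := preserves_pow hg _
  have hsdet : LinearMap.det (en s) = 1 := by rw [hs, en_pow, map_pow, hdet, one_pow]
  have hfin : Module.finrank F (Fin n → F) = n := Module.finrank_fin_fun F
  rcases trichotomy hB.tf hsp hsep with ⟨W₁, W₂, hc, h1, h2, horth, hinv⟩ | hfield | hpair
  · left
    obtain ⟨ζ, hζ, hζq⟩ := exists_zeta (F := F) (q := q) hr hrq
    have hgs : Commute (en g) (en s) := by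
      rw [hs, en_pow]; exact Commute.self_pow _ _
    obtain ⟨hi1, hi2⟩ := hinv (en g) hgs
    set k1 := Module.finrank F W₁
    set k2 := Module.finrank F W₂
    have hk : k1 + k2 = n := by rw [Submodule.finrank_add_eq_of_isCompl hc, hfin]
    set c1 : Fˣ := ζ ^ k2 with hc1
    set c2 : Fˣ := ζ⁻¹ ^ k1 with hc2
    have hnorm : ∀ e : Fˣ, (e : F) ^ (q + 1) = 1 → σ (e : F) * (e : F) = 1 := fun e he => by
      rw [sigma_apply, ← pow_succ, he]
    have hz1 : (c1 : F) ^ (q + 1) = 1 := by
      rw [hc1, Units.val_pow_eq_pow_val, ← pow_mul, mul_comm, pow_mul, hζq, one_pow]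
    have hz2 : (c2 : F) ^ (q + 1) = 1 := by
      rw [hc2, Units.val_pow_eq_pow_val, ← pow_mul, mul_comm, pow_mul, Units.val_inv_eq_inv_val,
        inv_pow, hζq, inv_one, one_pow]
    let e := Submodule.prodEquivOfIsCompl W₁ W₂ hc
    let z : (Fin n → F) ≃ₗ[F] (Fin n → F) :=
      (e.symm.trans ((LinearEquiv.smulOfUnit c1).prodCongr (LinearEquiv.smulOfUnit c2))).trans e
    have hzap : ∀ (u : W₁) (v : W₂),
        z ((u : Fin n → F) + v) = (c1 : F) • (u : Fin n → F) + (c2 : F) • (v : Fin n → F) := by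
      intro u v
      have hh : e.symm ((u : Fin n → F) + v) = (u, v) := e.injective (by
        rw [e.apply_symm_apply]; rfl)
      show e (((LinearEquiv.smulOfUnit c1).prodCongr (LinearEquiv.smulOfUnit c2))
        (e.symm ((u : Fin n → F) + v))) = _
      rw [hh]
      rfl
    have hdec : ∀ w, ∃ (u : W₁) (v : W₂), (u : Fin n → F) + v = w := fun w =>
      ⟨(e.symm w).1, (e.symm w).2, e.apply_symm_apply w⟩
    have hzp : Preserves (hermB n σ) z := by
      intro x y
      obtain ⟨u, v, rfl⟩ := hdec x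
      obtain ⟨u', v', rfl⟩ := hdec y
      rw [hzap, hzap]
      simp only [map_add, map_smulₛₗ, LinearMap.add_apply, LinearMap.smul_apply, smul_eq_mul,
        RingHom.id_apply, (horth u u.2 v' v'.2).1, (horth u' u'.2 v v.2).2, mul_zero, add_zero,
        zero_add]
      linear_combination (hermB n σ (u : Fin n → F) u') * hnorm c1 hz1 +
        (hermB n σ (v : Fin n → F) v') * hnorm c2 hz2
    have hzcomm : Commute (en g) (en z) := by
      refine LinearMap.ext fun w => ?_
      obtain ⟨u, v, rfl⟩ := hdec w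
      show g (z _) = z (g _)
      rw [hzap, map_add, map_smul, map_smul, map_add,
        hzap ⟨g u, hi1 u u.2⟩ ⟨g v, hi2 v v.2⟩]
    have hzdet : LinearMap.det (en z) = 1 := by
      have he : en z = (e : (W₁ × W₂) →ₗ[F] (Fin n → F)) ∘ₗ
          (LinearMap.prodMap ((c1 : F) • LinearMap.id) ((c2 : F) • LinearMap.id)) ∘ₗ
          (e.symm : (Fin n → F) →ₗ[F] (W₁ × W₂)) := rfl
      rw [he, LinearMap.det_conj, LinearMap.det_prodMap, LinearMap.det_smul, LinearMap.det_smul,
        LinearMap.det_id, LinearMap.det_id, mul_one, mul_one, ← Units.val_pow_eq_pow_val,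
        ← Units.val_pow_eq_pow_val, ← Units.val_mul, hc1, hc2, ← pow_mul, ← pow_mul, inv_pow,
        mul_comm k2 k1, mul_inv_cancel, Units.val_one]
    have hzpow : ∀ (j : ℕ) (u : W₁) (v : W₂), (en z ^ j) ((u : Fin n → F) + v) =
        (c1 : F) ^ j • (u : Fin n → F) + (c2 : F) ^ j • (v : Fin n → F) := by
      intro j
      induction j with
      | zero => intro u v; simp
      | succ j ih =>
        intro u v
        rw [pow_succ, Module.End.mul_apply]
        show (en z ^ j) (z _) = _
        rw [hzap, ← Submodule.coe_smul, ← Submodule.coe_smul, ih]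
        simp [smul_smul, pow_succ]
    have hzr : ∀ j, r ∣ j → en z ^ j = 1 := by
      intro j hj
      have hζj : ∀ k : ℕ, ((ζ ^ k : Fˣ) : F) ^ j = 1 := fun k => by
        rw [← Units.val_pow_eq_pow_val, ← pow_mul, orderOf_dvd_iff_pow_eq_one.1
          (hζ ▸ hj.mul_left k), Units.val_one]
      refine LinearMap.ext fun w => ?_
      obtain ⟨u, v, rfl⟩ := hdec w
      rw [hzpow, hc1, hc2, hζj, inv_pow, Units.val_inv_eq_inv_val, inv_pow, hζj, inv_one, one_smul,
        one_smul]
      rfl
    obtain ⟨u0, hu0, hu0'⟩ := (Submodule.ne_bot_iff _).1 h1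
    obtain ⟨v0, hv0, hv0'⟩ := (Submodule.ne_bot_iff _).1 h2
    have hzscal : ∀ j, (∃ c : F, ∀ w, (en z ^ j) w = c • w) → r ∣ j := by
      rintro j ⟨c, hcj⟩
      have e1 := hcj u0
      have e2 := hcj v0
      have h0u := hzpow j ⟨u0, hu0⟩ 0
      have h0v := hzpow j 0 ⟨v0, hv0⟩
      simp only [ZeroMemClass.coe_zero, smul_zero, add_zero, zero_add] at h0u h0v
      rw [h0u] at e1
      rw [h0v] at e2
      have ec : c1 ^ j = c2 ^ j := Units.ext (by
        rw [Units.val_pow_eq_pow_val c1 j, Units.val_pow_eq_pow_val c2 j, smul_left_injective F hu0' e1,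
          smul_left_injective F hv0' e2])
      rw [hc1, hc2, ← pow_mul, ← pow_mul, inv_pow, eq_inv_iff_mul_eq_one, ← pow_add, ← add_mul,
        add_comm, hk] at ec
      exact (hr.dvd_mul.1 (hζ ▸ orderOf_dvd_of_pow_eq_one ec)).resolve_left hrn
    obtain ⟨y, hy⟩ := exists_psu (hermB_flip (F := F) (q := q) n) hn hfin (g * z) (hg.mul hzp) (by
      show LinearMap.det (en g * en z) = 1
      rw [map_mul, hdet, hzdet, one_mul])
    have hgz : ∀ j, (((g * z : (Fin n → F) ≃ₗ[F] (Fin n → F))) : Module.End F (Fin n → F)) ^ j =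
        en g ^ j * en z ^ j := fun j => hzcomm.mul_pow j
    refine ⟨y, Nat.dvd_antisymm ?_ ?_⟩
    · obtain ⟨c, hcN⟩ := (hpow _).1 (pow_orderOf_eq_one x)
      refine orderOf_dvd_of_pow_eq_one ((hy _).2 ⟨c ^ r, fun w => ?_⟩)
      rw [hgz, hzr _ (Dvd.intro _ rfl), mul_one]
      have : en g ^ orderOf x = c • (1 : Module.End F (Fin n → F)) := LinearMap.ext fun w => hcN w
      rw [mul_comm r, pow_mul, this, _root_.smul_pow, one_pow]
      rfl
    · obtain ⟨c, hcy⟩ := (hy _).1 (pow_orderOf_eq_one y)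
      have e1 : en g ^ orderOf y * en z ^ orderOf y = c • (1 : Module.End F (Fin n → F)) := by
        rw [← hgz]; exact LinearMap.ext fun w => hcy w
      have e2 : en g ^ (orderOf y * r) = c ^ r • (1 : Module.End F (Fin n → F)) := by
        have := congrArg (· ^ r) e1
        rw [((hzcomm.pow_pow _ _).mul_pow), ← pow_mul, ← pow_mul,
          hzr (orderOf y * r) (Dvd.intro_left _ rfl), mul_one, _root_.smul_pow, one_pow] at this
        exact this
      have hN : orderOf x ∣ orderOf y :=
        ((hr.coprime_iff_not_dvd.2 hx).symm).dvd_of_dvd_mul_right (orderOf_dvd_of_pow_eq_one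
          ((hpow _).2 ⟨_, fun w => by
            rw [e2]
            rfl⟩))
      obtain ⟨c', hc'⟩ := (hpow _).1 (orderOf_dvd_iff_pow_eq_one.1 hN)
      have hc'0 : c' ≠ 0 := fun h0 => by
        have hu : Function.Injective (en g ^ orderOf y) := by
          rw [← en_pow]; exact (g ^ orderOf y).injective
        have := hc' u0
        rw [h0, zero_smul] at this
        exact hu0' (hu (by rw [map_zero]; exact this))
      have hr' : r ∣ orderOf y := hzscal _ ⟨c'⁻¹ * c, fun w => by
        have := LinearMap.congr_fun e1 w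
        rw [Module.End.mul_apply, LinearMap.smul_apply, Module.End.one_apply] at this
        have h2 := hc' ((en z ^ orderOf y) w)
        rw [this] at h2
        rw [mul_smul, h2, smul_smul, inv_mul_cancel₀ hc'0, one_smul]⟩
      exact (hr.coprime_iff_not_dvd.2 hx).mul_dvd_of_dvd_of_dvd hr' hN
  all_goals right
  all_goals
    suffices hsM : ∃ c : F, ∀ v, (en s ^ tM q n) v = c • v by
      have hu : (en g ^ m') ^ p ^ b = 1 := by
        rw [← pow_mul, mul_comm, ← hord, ← en_pow, pow_orderOf_eq_one]; rfl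
      have hb : p ^ b ∣ p ^ Nat.clog p n := by
        have h1 := pow_clog_eq_one p hu
        rw [hfin, ← pow_mul, ← en_pow] at h1
        have h3 : orderOf g ∣ m' * p ^ Nat.clog p n :=
          orderOf_dvd_of_pow_eq_one (LinearEquiv.toLinearMap_injective h1)
        rw [hord, mul_comm (p ^ b)] at h3
        refine Nat.dvd_of_mul_dvd_mul_left ?_ h3
        rcases Nat.eq_zero_or_pos m' with h0 | h0
        · haveI := finite_equiv (F := F) (V := Fin n → F)
          have : orderOf g ≠ 0 := (orderOf_pos g).ne'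
          simp [hord, h0] at this
        · exact h0
      obtain ⟨c, hcM⟩ := hsM
      obtain ⟨t, ht⟩ := hb
      refine orderOf_dvd_of_pow_eq_one ((hpow _).2 ⟨c ^ t, fun v => ?_⟩)
      have : en s ^ tM q n = c • (1 : Module.End F (Fin n → F)) := LinearMap.ext hcM
      rw [ht, show p ^ b * t * tM q n = p ^ b * tM q n * t by ring, pow_mul, pow_mul, ← en_pow,
        ← hs, this, _root_.smul_pow, one_pow]
      rfl
  · -- irreducible minimal polynomial
    obtain ⟨f, -, hfi, hf0, hfd, hfa⟩ := hfield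
    haveI := Fact.mk hfi
    obtain ⟨hd, hx1⟩ := self_dual_unitary hF sigma_apply sigma_sigma exists_sigma_ne hf0 hfd
    obtain ⟨k, hk, hdk⟩ := exists_det_norm hfa
    obtain ⟨hKfin, -⟩ := natCard_adjoinRoot (F := F) hfi.ne_zero
    have hfr : Module.finrank F (AdjoinRoot f) = f.natDegree := by
      rw [(AdjoinRoot.powerBasis hfi.ne_zero).finrank, AdjoinRoot.powerBasis_dim]
    rw [hsdet] at hdk
    have h2 : (AdjoinRoot.root f ^ ∑ i ∈ range f.natDegree, (q ^ 2) ^ i) ^ k = 1 := by
      have := congrArg (algebraMap F (AdjoinRoot f)) hdk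
      rw [map_one, map_pow, FiniteField.algebraMap_norm_eq_pow_sum, hfr, hF] at this
      exact this.symm
    rw [hfin] at hk
    have hA := pow_tA_field hd hx1 h2
    rw [← hk] at hA
    have h3 : (AdjoinRoot.root f ^ tM q n) ^ (q + 1) = 1 := by
      obtain ⟨t, ht⟩ := tA_dvd_tM_mul q n
      rw [← pow_mul, ht, pow_mul, hA, one_pow]
    obtain ⟨c, hc, -⟩ := exists_of_pow_q1 hF (by omega) (AdjoinRoot.of f) h3
    exact ⟨c, fun v => apply_pow_eq_smul hc.symm (by rw [hfa]; rfl)⟩
  · -- a pair of dual factors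
    obtain ⟨f, W₁, W₂, -, hfi, hf0, hc, -, hi1', hi2', hinv, hf1⟩ := hpair
    haveI := Fact.mk hfi
    obtain ⟨hw1, hw2⟩ := hinv (en s) (Commute.refl _)
    have hT : aeval ((en s).restrict hw1) f = 0 := by
      refine LinearMap.ext fun v => Subtype.ext ?_
      rw [LinearMap.zero_apply, ZeroMemClass.coe_zero, ← hf1 v v.2]
      have hres : ∀ g : F[X], ((aeval ((en s).restrict hw1) g) v : Fin n → F) =
          aeval (en s) g (v : Fin n → F) := by
        intro g
        induction g using Polynomial.induction_on' generalizing v with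
        | add a b ha hb => simp [ha, hb]
        | monomial k c =>
          rw [aeval_monomial, aeval_monomial, Module.End.mul_apply, Module.End.mul_apply,
            Algebra.algebraMap_eq_smul_one, Algebra.algebraMap_eq_smul_one, LinearMap.smul_apply,
            LinearMap.smul_apply, Module.End.one_apply, Module.End.one_apply, Submodule.coe_smul,
            Module.End.pow_restrict k (h := hw1)]
          rfl
      exact hres f
    obtain ⟨k, hk, hdk⟩ := exists_det_norm hT
    obtain ⟨hd1, hd2⟩ := det_pair hB.tf hc hi1' hi2' (en s) (fun u v => hsp u v) hw1 hw2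
    rw [hsdet] at hd1
    obtain ⟨hKfin, hKcard⟩ := natCard_adjoinRoot (F := F) hfi.ne_zero
    have hfr : Module.finrank F (AdjoinRoot f) = f.natDegree := by
      rw [(AdjoinRoot.powerBasis hfi.ne_zero).finrank, AdjoinRoot.powerBasis_dim]
    set N := Algebra.norm F (AdjoinRoot.root f) with hN
    have hN1 : (N ^ k) ^ (q - 1) = 1 := by
      set D := LinearMap.det ((en s).restrict hw2) with hD
      have hne : N ^ k ≠ 0 := fun h0 => by
        rw [← hdk] at h0
        rw [h0, zero_mul] at hd1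
        exact one_ne_zero hd1
      rw [hdk, sigma_apply] at hd2
      rw [hdk] at hd1
      have he : (N ^ k) ^ q = N ^ k := by
        refine mul_right_cancel₀ (b := D) (fun h0 => ?_) (hd2.trans hd1)
        rw [h0, mul_zero] at hd1
        exact one_ne_zero hd1
      refine mul_left_cancel₀ hne ?_
      rw [mul_one, ← pow_succ', Nat.sub_add_cancel (by omega), he]
    have h2 : ((AdjoinRoot.root f ^ ∑ i ∈ range f.natDegree, (q ^ 2) ^ i) ^ k) ^ (q - 1) = 1 := by
      have := congrArg (algebraMap F (AdjoinRoot f)) hN1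
      rw [map_one, map_pow, map_pow, FiniteField.algebraMap_norm_eq_pow_sum, hfr, hF] at this
      exact this
    have h1 : AdjoinRoot.root f ^ ((q ^ 2) ^ f.natDegree - 1) = 1 := by
      haveI := Fintype.ofFinite (AdjoinRoot f)
      rw [← hF, ← hKcard, Nat.card_eq_fintype_card]
      exact FiniteField.pow_card_sub_one_eq_one _ (root_ne_zero hf0)
    have hdim : n = 2 * f.natDegree * k := by
      rw [← hfin, ← Submodule.finrank_add_eq_of_isCompl hc, ← finrank_eq_of_pair hB.tf hc hi1' hi2',
        hk]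
      ring
    have hA := pow_tA_pair (by omega) h1 h2
    rw [← hdim] at hA
    have h3 : (AdjoinRoot.root f ^ tM q n) ^ (q + 1) = 1 := by
      obtain ⟨t, ht⟩ := tA_dvd_tM_mul q n
      rw [← pow_mul, ht, pow_mul, hA, one_pow]
    obtain ⟨c, hc', hcq⟩ := exists_of_pow_q1 hF (by omega) (AdjoinRoot.of f) h3
    have hW1 : ∀ v ∈ W₁, (en s ^ tM q n) v = c • v := fun v hv =>
      apply_pow_eq_smul hc'.symm (hf1 v hv)
    have hpM : ∀ u v, hermB n σ ((en s ^ tM q n) u) ((en s ^ tM q n) v) = hermB n σ u v := by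
      rw [← en_pow]
      exact preserves_pow hsp _
    obtain ⟨hM1, hM2⟩ := hinv (en s ^ tM q n) (Commute.pow_self _ _)
    refine ⟨c, fun w => ?_⟩
    obtain ⟨u, hu, v, hv, rfl⟩ := Submodule.mem_sup.1
      (hc.sup_eq_top ▸ Submodule.mem_top : w ∈ W₁ ⊔ W₂)
    suffices (en s ^ tM q n) v = c • v by rw [map_add, hW1 u hu, this, smul_add]
    refine sub_eq_zero.1 (eq_zero_of_pair hB.tf hc.symm hi2' (sub_mem (hM2 v hv)
      (W₂.smul_mem _ hv)) fun w hw => ?_)
    have h := hpM v w
    rw [hW1 w hw, map_smul, smul_eq_mul] at h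
    rw [map_sub, LinearMap.sub_apply, map_smulₛₗ, LinearMap.smul_apply, smul_eq_mul, sigma_apply]
    linear_combination (c ^ q) * h - (hermB n σ ((en s ^ tM q n) v) w) * hcq

theorem exists_sign (k : ℕ) : ∃ c : F, c + 1 * (-1) ^ k * σ c ≠ 0 := by
  by_contra hcon
  push Not at hcon
  have h1 := hcon 1
  rw [map_one, mul_one, one_mul] at h1
  obtain ⟨c, hc⟩ := exists_sigma_ne (F := F) (q := q)
  exact hc (by linear_combination -(hcon c) + σ c * h1)

/-- A regular unipotent element. -/
theorem exists_unipotent {n : ℕ} (hn : 2 ≤ n) :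
    ∃ x : Cfsg.PSU n F q, orderOf x = p ^ Nat.clog p n := by
  haveI := (finrank_UR (F := F) n).1
  obtain ⟨B, g, hB, hg, hgv⟩ := exists_unipotent_model (F := F) (m := n) (by omega)
    (sigma_sigma (F := F) (q := q)) (show (1 : F) * σ 1 = 1 by simp)
    (exists_sign (F := F) (q := q) (n - 1))
  set t := AdjoinRoot.root ((Polynomial.X - 1 : F[X]) ^ n) with ht
  have hpw : ∀ (j : ℕ) v, (en g ^ j) v = t ^ j * v := by
    intro j
    induction j with
    | zero => intro v; simp
    | succ j ih =>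
      intro v
      rw [pow_succ, Module.End.mul_apply, ih, pow_succ, mul_assoc]
      exact congrArg _ (hgv v)
  have hP : t ^ p ^ Nat.clog p n = 1 :=
    (root_pow_eq_one_iff n _).2 (Nat.le_pow_clog hp.out.one_lt n)
  obtain ⟨x, hx⟩ := exists_psu hB hn (finrank_UR (F := F) n).2 g hg
    (det_eq_one_of_unipotent p (b := Nat.clog p n) (LinearMap.ext fun v => by
      rw [hpw, hP, one_mul]; rfl))
  refine ⟨x, ?_⟩
  obtain ⟨e, he⟩ : ∃ e, Nat.clog p n = e + 1 :=
    ⟨Nat.clog p n - 1, (Nat.sub_add_cancel (Nat.clog_pos hp.out.one_lt (by omega))).symm⟩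
  rw [he]
  refine orderOf_eq_prime_pow (fun h => ?_) ?_
  · obtain ⟨c, hc⟩ := (hx _).1 h
    have h1 := hc 1
    rw [hpw, mul_one, Algebra.smul_def, mul_one] at h1
    haveI : Nontrivial (UR F n) := Module.nontrivial_of_finrank_pos (R := F)
      (by rw [(finrank_UR (F := F) n).2]; omega)
    have hc1 : c = 1 := by
      have h2 : c ^ p = 1 := by
        refine (algebraMap F (UR F n)).injective ?_
        rw [map_pow, ← h1, ← pow_mul, ← pow_succ, ← he, hP, map_one]
      have : (c - 1) ^ p = 0 := by rw [sub_pow_char, h2, one_pow, sub_self]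
      exact sub_eq_zero.1 (pow_eq_zero_iff hp.out.ne_zero |>.1 this)
    rw [hc1, map_one, root_pow_eq_one_iff] at h1
    have := Nat.pow_lt_of_lt_clog (b := p) (x := n) (y := e) (by omega)
    omega
  · exact (hx _).2 ⟨1, fun v => by rw [hpw, ← he, hP, one_mul, one_smul]⟩

/-- A product of a regular unipotent element of `GU_{n-1}` and an element of order `r`. -/
theorem exists_unipotent_mul {n r : ℕ} (hn : 3 ≤ n) (hr : r.Prime) (hrq : r ∣ q + 1)
    (hrn : ¬ r ∣ n) (hrp : r ≠ p) :
    ∃ x : Cfsg.PSU n F q, orderOf x = r * p ^ Nat.clog p (n - 1) := by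
  obtain ⟨ζ, hζ, hζq⟩ := exists_zeta (F := F) (q := q) hr hrq
  haveI := (finrank_UR (F := F) (n - 1)).1
  obtain ⟨B, g, hB, hg, hgv⟩ := exists_unipotent_model (F := F) (m := n - 1)
    (by omega) (sigma_sigma (F := F) (q := q)) (show (1 : F) * σ 1 = 1 by simp)
    (exists_sign (F := F) (q := q) (n - 1 - 1))
  set t := AdjoinRoot.root ((Polynomial.X - 1 : F[X]) ^ (n - 1)) with ht
  haveI : Nontrivial (UR F (n - 1)) := Module.nontrivial_of_finrank_pos (R := F)
    (by rw [(finrank_UR (F := F) (n - 1)).2]; omega)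
  -- the one-dimensional space
  let B₁ : F →ₛₗ[σ] F →ₗ[F] F :=
    LinearMap.mk₂'ₛₗ σ (RingHom.id F) (fun u v => σ u * v)
      (fun u u' v => by rw [map_add, add_mul])
      (fun c u v => by rw [smul_eq_mul, map_mul, smul_eq_mul, mul_assoc])
      (fun u v v' => by rw [mul_add])
      (fun c u v => by rw [smul_eq_mul, smul_eq_mul, RingHom.id_apply, mul_left_comm])
  have hB₁ : IsFlipForm σ 1 B₁ := by
    refine ⟨fun u v => ?_, fun u h => ?_⟩
    · show σ v * u = 1 * σ (σ u * v)
      rw [map_mul, sigma_sigma, one_mul, mul_comm]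
    · have : σ u * 1 = 0 := h 1
      rw [mul_one] at this
      exact (map_eq_zero σ).1 this
  set c₁ : Fˣ := ζ with hc₁
  set c₂ : Fˣ := ζ⁻¹ ^ (n - 1) with hc₂
  let g' : (UR F (n - 1) × F) ≃ₗ[F] (UR F (n - 1) × F) :=
    (g.trans (LinearEquiv.smulOfUnit c₁)).prodCongr (LinearEquiv.smulOfUnit c₂)
  have hg'v : ∀ v, g' v = ((c₁ : F) • (t * v.1), (c₂ : F) • v.2) := fun v => by
    rw [← hgv]; rfl
  have hnorm : ∀ e : Fˣ, (e : F) ^ (q + 1) = 1 → σ (e : F) * (e : F) = 1 := fun e he => by
    rw [sigma_apply, ← pow_succ, he]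
  have hn2 : (c₂ : F) ^ (q + 1) = 1 := by
    rw [hc₂, Units.val_pow_eq_pow_val, ← pow_mul, mul_comm, pow_mul, Units.val_inv_eq_inv_val,
      inv_pow, hζq, inv_one, one_pow]
  have hg' : Preserves (prodB σ B B₁) g' := fun u v => by
    rw [prodB_apply, prodB_apply, hg'v, hg'v]
    simp only [map_smulₛₗ, LinearMap.smul_apply, smul_eq_mul, RingHom.id_apply, ← hgv]
    rw [hg u.1 v.1]
    simp only [show ∀ x y, B₁ x y = σ x * y from fun _ _ => rfl, map_mul]
    linear_combination (B u.1 v.1) * hnorm c₁ hζq + (σ u.2 * v.2) * hnorm c₂ hn2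
  set P := p ^ Nat.clog p (n - 1) with hPdef
  have hP : t ^ P = 1 := (root_pow_eq_one_iff (n - 1) _).2 (Nat.le_pow_clog hp.out.one_lt _)
  have hdet : LinearMap.det (g' : (UR F (n - 1) × F) →ₗ[F] _) = 1 := by
    have he : (g' : (UR F (n - 1) × F) →ₗ[F] (UR F (n - 1) × F)) =
        LinearMap.prodMap ((c₁ : F) • (g : UR F (n - 1) →ₗ[F] UR F (n - 1)))
          ((c₂ : F) • LinearMap.id) := rfl
    have hgd : LinearMap.det (g : UR F (n - 1) →ₗ[F] UR F (n - 1)) = 1 := by
      refine det_eq_one_of_unipotent p (b := Nat.clog p (n - 1)) ?_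
      have : ∀ (j : ℕ) v, ((g : Module.End F (UR F (n - 1))) ^ j) v = t ^ j * v := by
        intro j
        induction j with
        | zero => intro v; simp
        | succ j ih =>
          intro v
          rw [pow_succ, Module.End.mul_apply, ih, pow_succ, mul_assoc]
          exact congrArg _ (hgv v)
      exact LinearMap.ext fun v => by rw [this, hP, one_mul]; rfl
    rw [he, LinearMap.det_prodMap, LinearMap.det_smul, LinearMap.det_smul, hgd, LinearMap.det_id,
      Module.finrank_self, (finrank_UR (F := F) (n - 1)).2, pow_one, mul_one, mul_one,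
      ← Units.val_pow_eq_pow_val, ← Units.val_mul, hc₁, hc₂, inv_pow, mul_inv_cancel, Units.val_one]
  have hdim : Module.finrank F (UR F (n - 1) × F) = n := by
    rw [Module.finrank_prod, (finrank_UR (F := F) (n - 1)).2, Module.finrank_self]; omega
  obtain ⟨x, hx⟩ := exists_psu (prodB_isFlip hB hB₁) (by omega) hdim g' hg' hdet
  have hpw : ∀ (j : ℕ) v, (en g' ^ j) v = ((c₁ : F) ^ j • (t ^ j * v.1), (c₂ : F) ^ j • v.2) := by
    intro j
    induction j with
    | zero => intro v; simp
    | succ j ih =>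
      intro v
      rw [pow_succ, Module.End.mul_apply, ih]
      show _ = _
      have := hg'v v
      rw [show en g' v = g' v from rfl, this]
      simp only [mul_smul_comm, smul_smul, pow_succ, mul_assoc]
  refine ⟨x, Nat.dvd_antisymm ?_ ?_⟩
  · refine orderOf_dvd_of_pow_eq_one ((hx _).2 ⟨1, fun v => ?_⟩)
    have h1 : c₁ ^ (r * P) = 1 :=
      orderOf_dvd_iff_pow_eq_one.1 (by rw [hc₁, hζ]; exact Dvd.intro _ rfl)
    have h2 : c₂ ^ (r * P) = 1 := by
      rw [hc₂, ← pow_mul, mul_comm, pow_mul, inv_pow, ← hc₁, h1, inv_one, one_pow]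
    rw [hpw, ← Units.val_pow_eq_pow_val, ← Units.val_pow_eq_pow_val, h1, h2, Units.val_one,
      mul_comm r P, pow_mul, hP, one_pow, one_mul, one_smul, one_smul, one_smul]
  · set j := orderOf x
    obtain ⟨c, hcj⟩ := (hx _).1 (pow_orderOf_eq_one x)
    have e := hcj (1, 1)
    rw [hpw] at e
    have e1 : (c₁ : F) ^ j • t ^ j = c • (1 : UR F (n - 1)) := by
      simpa using congrArg Prod.fst e
    have e2 : (c₂ : F) ^ j = c := by simpa using congrArg Prod.snd e
    have e3 : ((c₁ : F) ^ j) ^ P = c ^ P := by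
      have h := congrArg (· ^ P) e1
      simp only [_root_.smul_pow, one_pow] at h
      rw [← pow_mul t, mul_comm, pow_mul t, hP, one_pow] at h
      exact smul_left_injective F (one_ne_zero (α := UR F (n - 1))) h
    have hrj : r ∣ j := by
      rw [← e2] at e3
      have e4 : (c₁ ^ j) ^ P = (c₂ ^ j) ^ P := Units.ext (by
        simpa only [Units.val_pow_eq_pow_val] using e3)
      rw [hc₂, inv_pow, inv_pow, inv_pow, eq_inv_iff_mul_eq_one, hc₁, ← pow_mul, ← pow_mul,
        ← pow_mul, ← pow_add] at e4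
      have h5 : r ∣ n * (j * P) := by
        have := orderOf_dvd_of_pow_eq_one e4
        rw [hζ] at this
        convert this using 1
        obtain ⟨n', rfl⟩ : ∃ n', n = n' + 1 := ⟨n - 1, by omega⟩
        rw [Nat.add_sub_cancel]
        ring
      rcases hr.dvd_mul.1 h5 with h | h
      · exact absurd h hrn
      rcases hr.dvd_mul.1 h with h | h
      · exact h
      · exact absurd ((Nat.prime_dvd_prime_iff_eq hr hp.out).1 (hr.dvd_of_dvd_pow h)) hrp
    have h1 : c₁ ^ j = 1 := orderOf_dvd_iff_pow_eq_one.1 (by rw [hc₁, hζ]; exact hrj)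
    have h2 : c₂ ^ j = 1 := by
      rw [hc₂, ← pow_mul, mul_comm, pow_mul, inv_pow, ← hc₁, h1, inv_one, one_pow]
    rw [← e2, ← Units.val_pow_eq_pow_val, ← Units.val_pow_eq_pow_val, h1, h2, Units.val_one,
      one_smul, one_smul] at e1
    have hto : orderOf t = P := by
      rcases Nat.eq_zero_or_pos (Nat.clog p (n - 1)) with h0 | h0
      · exfalso
        have := Nat.clog_pos hp.out.one_lt (show 2 ≤ n - 1 by omega)
        omega
      · obtain ⟨e', he'⟩ : ∃ e', Nat.clog p (n - 1) = e' + 1 :=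
          ⟨Nat.clog p (n - 1) - 1, by omega⟩
        rw [hPdef, he']
        refine orderOf_eq_prime_pow (fun h => ?_) (by rw [← he']; exact hP)
        rw [root_pow_eq_one_iff] at h
        have := Nat.pow_lt_of_lt_clog (b := p) (x := n - 1) (y := e') (by omega)
        omega
    have hPj : P ∣ j := hto ▸ orderOf_dvd_of_pow_eq_one e1
    exact ((Nat.coprime_primes hr hp.out).2 hrp).pow_right _ |>.mul_dvd_of_dvd_of_dvd hrj hPj

end Cfsg.Agent.FormTorus
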